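import Groth.Agent.SGA3.K503.Perf
import Groth.Agent.SGA3x.K7.IntDesc
import Groth.Agent.S17472
import Groth.Agent.Sga3.H785.GalDesc
import Groth.Agent.Sga3A.GeomConn

/-!
# Splitting over a perfect field, connected base
-/

set_option autoImplicit false

universe u

open TensorProduct WithConv HopfRep

namespace K503.Case2

open K503.Frame K503.CrMod K503.GoodSp K503.QuotExt K503.Perf

variable {k : Type u} [Field k]

/-- Hopf algebras of multiplicative type have an invariant integral. -/
theorem exists_int {B : Type u} [CommRing B] [HopfAlgebra k B] [Algebra.FiniteType k B] (hB : SGA3b.IsMultTypeConst k B) :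
    ∃ μ : B →ₗ[k] k, K7.IntDesc.IsInt μ := by
  obtain ⟨M, _, ⟨g⟩⟩ := Groth.Agent.Sga3.H785.GalDesc.exists_gbasis (AlgebraicClosure k) hB
  obtain ⟨l, hl⟩ := K7.IntDesc.exists_isInt_of_gbasis g
  exact K7.IntDesc.exists_isInt hl

/-- geometric connectedness in terms of idempotents -/
theorem idem_bc {B : Type u} [CommRing B] [HopfAlgebra k B]
    (hconn : ∀ e : B, IsIdempotentElem e → e = 0 ∨ e = 1) (K : Type u) [Field K] [Algebra k K] :
    ∀ e : K ⊗[k] B, IsIdempotentElem e → e = 0 ∨ e = 1 := by
  have : Nontrivial B := (Bialgebra.counitAlgHom k B).toRingHom.domain_nontrivial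
  have := Groth.Agent.Sga3A.GeomConn.connectedSpace_of_idempotents B hconn
  intro e he
  have h1 := he.map (Groth.Agent.Sga3A.GeomConn.sp K (Bialgebra.counitAlgHom k B))
  rcases IsIdempotentElem.iff_eq_zero_or_one.1 h1 with h | h
  · exact Or.inl (Groth.Agent.Sga3A.GeomConn.eq_zero_of_sp_eq_zero _ e he h)
  · right
    have h2 := Groth.Agent.Sga3A.GeomConn.eq_zero_of_sp_eq_zero (Bialgebra.counitAlgHom k B) (1 - e) he.one_sub
      (by rw [map_sub, map_one, h, sub_self])
    exact (sub_eq_zero.1 h2).symm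

/-- functions on a connected group which are `p ^ n`-th powers for all `n` are constant -/
theorem eq_zero_of_pow {B : Type u} [CommRing B] [HopfAlgebra k B] [Algebra.FiniteType k B]
    (hconn : ∀ e : B, IsIdempotentElem e → e = 0 ∨ e = 1) (p : ℕ) (hp : p.Prime) (b : B)
    (h : ∀ n : ℕ, ∃ d : B, d ^ p ^ n = b) (hb : Coalgebra.counit (R := k) b = 0) : b = 0 := by
  let K := AlgebraicClosure k
  have h1 := Groth.Agent.S17472.result K (K ⊗[k] B) (idem_bc hconn K)
  have h2 : (1 : K) ⊗ₜ[k] b ∈ (⨅ n : ℕ, RingHom.ker (Bialgebra.counitAlgHom K (K ⊗[k] B)) ^ n) := by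
    rw [Submodule.mem_iInf]
    intro n
    obtain ⟨d, hd⟩ := h n
    have h3 : Coalgebra.counit (R := k) d = 0 := by
      have h4 : (Bialgebra.counitAlgHom k B d) ^ p ^ n = 0 := by
        rw [← map_pow, hd]
        exact hb
      exact pow_eq_zero_iff (pow_ne_zero _ hp.ne_zero) |>.1 h4
    have h4 : (1 : K) ⊗ₜ[k] d ∈ RingHom.ker (Bialgebra.counitAlgHom K (K ⊗[k] B)) := by
      change Coalgebra.counit (R := K) ((1 : K) ⊗ₜ[k] d) = 0
      rw [TensorProduct.counit_tmul, h3, zero_smul]
    have h5 : (1 : K) ⊗ₜ[k] b = ((1 : K) ⊗ₜ[k] d) ^ p ^ n := by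
      rw [Algebra.TensorProduct.tmul_pow, one_pow, hd]
    rw [h5]
    exact Ideal.pow_le_pow_right (Nat.lt_pow_self hp.one_lt).le (Ideal.pow_mem_pow h4 _)
  rw [h1, Ideal.mem_bot] at h2
  have h3 : Function.Injective (Algebra.TensorProduct.includeRight : B →ₐ[k] K ⊗[k] B) :=
    Algebra.TensorProduct.includeRight_injective (algebraMap k K).injective
  apply h3
  rw [map_zero]
  exact h2

/-- the counit as a bialgebra map -/
noncomputable def counitB (k : Type u) [Field k] (A : Type u) [CommRing A] [HopfAlgebra k A] : A →ₐc[k] k :=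
  BialgHom.ofAlgHom (Bialgebra.counitAlgHom k A) (by ext; simp) (by
    apply AlgHom.ext
    intro a
    have h1 : ∀ z : A ⊗[k] A, TensorProduct.map (Coalgebra.counit (R := k) (A := A)) (Coalgebra.counit (R := k) (A := A)) z =
        (Coalgebra.counit (R := k) (A := A)).lTensor k ((Coalgebra.counit (R := k) (A := A)).rTensor A z) := by
      intro z
      induction z with
      | zero => simp
      | add x y hx hy => simp only [map_add, hx, hy]
      | tmul x y => simp
    change TensorProduct.map (Coalgebra.counit (R := k) (A := A)) (Coalgebra.counit (R := k) (A := A))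
      (Coalgebra.comul (R := k) a) = Coalgebra.comul (R := k) (Coalgebra.counit (R := k) a)
    rw [h1, Coalgebra.rTensor_counit_comul, LinearMap.lTensor_tmul, CommSemiring.comul_apply])

theorem counitB_apply (A : Type u) [CommRing A] [HopfAlgebra k A] (a : A) :
    counitB k A a = Coalgebra.counit (R := k) a := rfl

theorem ext_mk {A B : Type u} [CommRing A] [HopfAlgebra k A] [CommRing B] [HopfAlgebra k B] (ψ : B →ₐc[k] A)
    (hψ : Function.Injective ψ) (J : Ideal A) [J.IsHopfIdeal k]
    (hJ : J = Ideal.map (ψ : B →+* A) (RingHom.ker (Bialgebra.counitAlgHom k B))) :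
    Ext ψ (Bialgebra.Quotient.mkBialgHom (R := k) J) where
  inj := hψ
  surj := Ideal.Quotient.mk_surjective
  ker := (Ideal.mk_ker (I := J)).trans hJ

theorem isNoetherianRing_of_fg {A : Type u} [CommRing A] [Algebra k A] [Algebra.FiniteType k A] : IsNoetherianRing A :=
  Algebra.FiniteType.isNoetherianRing k A

/-- **Splitting over a perfect field, connected base.** -/
theorem exists_retraction_connected [PerfectField k] (A B : Type u) [CommRing A] [HopfAlgebra k A]
    [Algebra.FiniteType k A] [CommRing B] [HopfAlgebra k B] [Algebra.FiniteType k B]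
    (hB : SGA3b.IsMultTypeConst k B) (ψ : B →ₐc[k] A) (hψ : Function.Injective ψ)
    (J : Ideal A) [J.IsHopfIdeal k]
    (hJ : J = Ideal.map (ψ : B →+* A) (RingHom.ker (Bialgebra.counitAlgHom k B)))
    (hU : HopfRep.IsUnipotent k (A ⧸ J))
    (hconn : ∀ e : B, IsIdempotentElem e → e = 0 ∨ e = 1) :
    ∃ r : A →ₐc[k] B, r.comp ψ = BialgHom.id k B := by
  obtain ⟨μ, hμ⟩ := exists_int hB
  have : IsNoetherianRing A := isNoetherianRing_of_fg (k := k)
  have : IsNoetherianRing B := isNoetherianRing_of_fg (k := k)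
  obtain ⟨s, hs, -⟩ := Perf.exists_retraction (E := k) (ext_mk ψ hψ J hJ) hU μ hμ.one hμ.left (counitB k A) (counitB k B)
    (fun b => by rw [counitB_apply, counitB_apply, CoalgHomClass.counit_comp_apply]) LinearMap.id rfl (by
      intro e
      rw [CommSemiring.comul_apply, LinearMap.rTensor_tmul, LinearMap.id_apply, LinearMap.id_apply]
      have h1 := TensorProduct.smul_tmul (R := k) e (1 : k) (1 : k)
      rw [smul_eq_mul, mul_one] at h1
      exact h1.symm)
    (fun p hp _ b hb hb0 => eq_zero_of_pow hconn p hp b hb hb0)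
  exact ⟨s, hs⟩

end K503.Case2
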