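import Groth.Agent.SGA3.K503.CrLin
import Mathlib.FieldTheory.Perfect
import Mathlib.Algebra.CharP.Lemmas
import Mathlib.RingTheory.Noetherian.Nilpotent

/-!
# Powers in the comodule of crossed functions

Characteristic `p`. `F j : P π →+ P π`, `a ↦ a ^ p ^ j`, and its compatibility with the coaction.
-/

set_option autoImplicit false

universe u v

open TensorProduct WithConv HopfRep

namespace K503.CrPow

open Groth.Agent.Books.NormalKer Groth.Agent.Books.CoidealFlat Groth.Agent.Books.ComodBasic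
open Groth.Agent.Books.ComodHom K503.Frame K503.CrMod K503.CrLin

section ring

variable (k : Type u) [Field k] (p : ℕ) [Fact p.Prime] [CharP k p] {R : Type v} [CommRing R] [Algebra k R]

include k in
theorem add_pow' (j : ℕ) (x y : R) : (x + y) ^ p ^ j = x ^ p ^ j + y ^ p ^ j := by
  obtain ⟨r, hr⟩ := exists_add_pow_prime_pow_eq (Fact.out : p.Prime) x y j
  have h0 : (p : R) = 0 := by
    rw [← map_natCast (algebraMap k R), CharP.cast_eq_zero, map_zero]
  rw [hr, h0]
  ring

include k in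
theorem neg_pow' (j : ℕ) (x : R) : (-x) ^ p ^ j = - x ^ p ^ j := by
  have h1 := add_pow' k p j x (-x)
  rw [add_neg_cancel, zero_pow (pow_ne_zero _ (Fact.out : p.Prime).ne_zero)] at h1
  exact eq_neg_of_add_eq_zero_right h1.symm

include k in
theorem sub_pow' (j : ℕ) (x y : R) : (x - y) ^ p ^ j = x ^ p ^ j - y ^ p ^ j := by
  rw [sub_eq_add_neg, add_pow' k, neg_pow' k, ← sub_eq_add_neg]

end ring

variable {k : Type u} [Field k] (p : ℕ) [Fact p.Prime] [CharP k p] {A B C E : Type v} [CommRing A] [HopfAlgebra k A]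
  [CommRing B] [HopfAlgebra k B] [CommRing C] [HopfAlgebra k C] [CommRing E] [HopfAlgebra k E]
  {ψ : B →ₐc[k] A} {π : A →ₐc[k] C}

theorem pow_mem_P (j : ℕ) {a : A} (ha : a ∈ P π) : a ^ p ^ j ∈ P π := by
  rw [mem_P] at ha ⊢
  rw [map_pow, ha, add_pow' k, Algebra.TensorProduct.tmul_pow, Algebra.TensorProduct.tmul_pow, one_pow, one_pow]
  congr 2
  exact (map_pow (π : A →ₐ[k] C) a _).symm

/-- the power map -/
def F (j : ℕ) : P π →+ P π where
  toFun a := ⟨(a : A) ^ p ^ j, pow_mem_P p j a.2⟩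
  map_zero' := Subtype.ext (zero_pow (pow_ne_zero _ (Fact.out : p.Prime).ne_zero))
  map_add' a b := Subtype.ext (add_pow' k p j (a : A) (b : A))

@[simp] theorem coe_F (j : ℕ) (a : P π) : (F p j a : A) = (a : A) ^ p ^ j := rfl

theorem F_smul (j : ℕ) (c : k) (a : P π) : F p j (c • a) = c ^ p ^ j • F p j a := by
  apply Subtype.ext
  rw [coe_F, Submodule.coe_smul, Submodule.coe_smul, coe_F, smul_pow]

theorem F_zero (a : P π) : F p 0 a = a := by
  apply Subtype.ext
  rw [coe_F, pow_zero, pow_one]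

theorem F_F (i j : ℕ) (a : P π) : F p i (F p j a) = F p (i + j) a := by
  apply Subtype.ext
  rw [coe_F, coe_F, coe_F, ← pow_mul, ← pow_add, add_comm i j]

theorem pi_F (j : ℕ) (a : P π) : π (F p j a : A) = π (a : A) ^ p ^ j := map_pow (π : A →ₐ[k] C) _ _

theorem F_mem_I0 (j : ℕ) {a : P π} (ha : a ∈ I0 π) : F p j a ∈ I0 π := by
  rw [mem_I0] at ha ⊢
  rw [pi_F, ha, zero_pow (pow_ne_zero _ (Fact.out : p.Prime).ne_zero)]

theorem D_pow (j : ℕ) (a : A) : D k A (a ^ p ^ j) = D k A a ^ p ^ j := by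
  have h1 : Coalgebra.comul (R := k) (a ^ p ^ j) = (Coalgebra.comul (R := k) a) ^ p ^ j :=
    map_pow (Bialgebra.comulAlgHom k A) a _
  rw [D_apply, D_apply, h1, sub_pow' k, Algebra.TensorProduct.tmul_pow, one_pow]

/-- the power of a tensor -/
theorem exists_pow_tensor (j : ℕ) (z : P π ⊗[k] B) : ∃ z' : P π ⊗[k] B, incl ψ π z' = incl ψ π z ^ p ^ j ∧
    (∀ θ lam : P π →ₗ[k] k, (∀ x, lam x ^ p ^ j = θ (F p j x)) →
      TensorProduct.lid k B (θ.rTensor B z') = TensorProduct.lid k B (lam.rTensor B z) ^ p ^ j) ∧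
    ∀ φ φ' : B →ₗ[k] k, (∀ b, φ' b ^ p ^ j = φ (b ^ p ^ j)) →
      slice (P π) φ z' = F p j (slice (P π) φ' z) := by
  have hp : p ^ j ≠ 0 := pow_ne_zero _ (Fact.out : p.Prime).ne_zero
  induction z with
  | zero =>
    refine ⟨0, ?_, ?_, ?_⟩
    · rw [map_zero, zero_pow hp]
    · intro θ lam _
      rw [map_zero, map_zero, map_zero, map_zero, zero_pow hp]
    · intro φ φ' _
      rw [map_zero, map_zero, map_zero]
  | add x y hx hy =>
    obtain ⟨x', hx1, hx2, hx3⟩ := hx
    obtain ⟨y', hy1, hy2, hy3⟩ := hy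
    refine ⟨x' + y', ?_, ?_, ?_⟩
    · rw [map_add, map_add, hx1, hy1, add_pow' k]
    · intro θ lam h
      rw [map_add, map_add, map_add, map_add, hx2 θ lam h, hy2 θ lam h, add_pow' k]
    · intro φ φ' h
      rw [map_add, map_add, map_add, hx3 φ φ' h, hy3 φ φ' h]
  | tmul a b =>
    refine ⟨F p j a ⊗ₜ (b ^ p ^ j), ?_, ?_, ?_⟩
    · rw [incl_tmul, incl_tmul, Algebra.TensorProduct.tmul_pow, coe_F]
      congr 1
      exact map_pow (ψ : B →ₐ[k] A) _ _
    · intro θ lam h
      rw [LinearMap.rTensor_tmul, LinearMap.rTensor_tmul, TensorProduct.lid_tmul, TensorProduct.lid_tmul, ← h,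
        smul_pow]
    · intro φ φ' h
      rw [slice_tmul, slice_tmul, F_smul, h]

section comod

variable [c : Comod k B (P π)]

theorem coact_F (h : Ext ψ π) (hc : ∀ a : P π, incl ψ π (Comod.coact (k := k) (A := B) a) = D k A (a : A))
    (j : ℕ) (a : P π) {z' : P π ⊗[k] B}
    (hz : incl ψ π z' = incl ψ π (Comod.coact (k := k) (A := B) a) ^ p ^ j) :
    Comod.coact (k := k) (A := B) (F p j a) = z' := by
  apply incl_injective h
  rw [hc, hz, hc, coe_F, D_pow]

theorem coeffMap_F (h : Ext ψ π)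
    (hc : ∀ a : P π, incl ψ π (Comod.coact (k := k) (A := B) a) = D k A (a : A))
    (j : ℕ) (θ lam : P π →ₗ[k] k) (hl : ∀ x, lam x ^ p ^ j = θ (F p j x)) (a : P π) :
    coeffMap B θ (F p j a) = coeffMap B lam a ^ p ^ j := by
  obtain ⟨z', h1, h2, -⟩ := exists_pow_tensor (ψ := ψ) p j (Comod.coact (k := k) (A := B) a)
  rw [coeffMap_apply, coact_F p h hc j a h1, h2 θ lam hl, ← coeffMap_apply]

theorem dl_F (h : Ext ψ π)
    (hc : ∀ a : P π, incl ψ π (Comod.coact (k := k) (A := B) a) = D k A (a : A))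
    (j : ℕ) (θ lam : P π →ₗ[k] k) (hl : ∀ x, lam x ^ p ^ j = θ (F p j x)) (a : P π) :
    dl (B := B) θ (F p j a) = dl (B := B) lam a ^ p ^ j := by
  rw [dl_apply, dl_apply, coeffMap_F p h hc j θ lam hl, sub_pow' k, ← hl, map_pow]

theorem dact_F (h : Ext ψ π)
    (hc : ∀ a : P π, incl ψ π (Comod.coact (k := k) (A := B) a) = D k A (a : A))
    (j : ℕ) (φ φ' : B →ₗ[k] k) (hl : ∀ b, φ' b ^ p ^ j = φ (b ^ p ^ j)) (a : P π) :
    dact (P π) φ (F p j a) = F p j (dact (P π) φ' a) := by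
  obtain ⟨z', h1, -, h3⟩ := exists_pow_tensor (ψ := ψ) p j (Comod.coact (k := k) (A := B) a)
  rw [dact_apply, coact_F p h hc j a h1, h3 φ φ' hl, ← dact_apply]

/-- the span of the powers of the elements of a subspace -/
noncomputable def Fr (j : ℕ) (X : Submodule k (P π)) : Submodule k (P π) := Submodule.span k (F p j '' (X : Set (P π)))

theorem F_mem_Fr (j : ℕ) {X : Submodule k (P π)} {a : P π} (ha : a ∈ X) : F p j a ∈ Fr p j X :=
  Submodule.subset_span ⟨a, ha, rfl⟩

omit c in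
theorem slice_pow_mem (j : ℕ) (X : Submodule k (P π)) (z : X ⊗[k] B) :
    ∃ z' : P π ⊗[k] B, incl ψ π z' = incl ψ π (X.subtype.rTensor B z) ^ p ^ j ∧
      ∀ φ : B →ₗ[k] k, slice (P π) φ z' ∈ Fr p j X := by
  have hp : p ^ j ≠ 0 := pow_ne_zero _ (Fact.out : p.Prime).ne_zero
  induction z with
  | zero =>
    refine ⟨0, ?_, ?_⟩
    · rw [map_zero, map_zero, map_zero, zero_pow hp]
    · intro φ
      rw [map_zero]
      exact zero_mem _
  | add x y hx hy =>
    obtain ⟨x', hx1, hx2⟩ := hx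
    obtain ⟨y', hy1, hy2⟩ := hy
    refine ⟨x' + y', ?_, ?_⟩
    · rw [map_add, map_add, map_add, hx1, hy1, add_pow' k]
    · intro φ
      rw [map_add]
      exact add_mem (hx2 φ) (hy2 φ)
  | tmul a b =>
    refine ⟨F p j (a : P π) ⊗ₜ (b ^ p ^ j), ?_, ?_⟩
    · rw [incl_tmul, LinearMap.rTensor_tmul, incl_tmul, Algebra.TensorProduct.tmul_pow, coe_F]
      congr 1
      exact map_pow (ψ : B →ₐ[k] A) _ _
    · intro φ
      rw [slice_tmul]
      exact Submodule.smul_mem _ _ (F_mem_Fr p j a.2)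

theorem isSubcomod_Fr (h : Ext ψ π)
    (hc : ∀ a : P π, incl ψ π (Comod.coact (k := k) (A := B) a) = D k A (a : A))
    (j : ℕ) {X : Submodule k (P π)} (hX : IsSubcomod (k := k) (A := B) X) :
    IsSubcomod (k := k) (A := B) (Fr p j X) := by
  rw [isSubcomod_iff_dact]
  intro φ w hw
  induction hw using Submodule.span_induction with
  | mem x hx =>
    obtain ⟨a, ha, rfl⟩ := hx
    obtain ⟨z, hz⟩ := hX a ha
    obtain ⟨z', h1, h2⟩ := slice_pow_mem (ψ := ψ) p j X z
    rw [hz] at h1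
    rw [dact_apply, coact_F p h hc j a h1]
    exact h2 φ
  | zero => rw [map_zero]; exact zero_mem _
  | add x y _ _ hx hy => rw [map_add]; exact add_mem hx hy
  | smul c x _ hx => rw [map_smul]; exact Submodule.smul_mem _ _ hx

end comod

section perfect

variable [PerfectField k]

theorem exists_root_k (j : ℕ) (c : k) : ∃ d : k, d ^ p ^ j = c := by
  have : ExpChar k p := ExpChar.prime Fact.out
  have : PerfectRing k p := inferInstance
  obtain ⟨d, hd⟩ := (iterateFrobeniusEquiv k p j).surjective c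
  refine ⟨d, ?_⟩
  rw [← hd, iterateFrobeniusEquiv_apply, iterateFrobenius_def]

omit [PerfectField k] in
theorem pow_inj (j : ℕ) {c d : k} (h : c ^ p ^ j = d ^ p ^ j) : c = d := by
  rw [← sub_eq_zero]
  apply eq_zero_of_pow_eq_zero (n := p ^ j)
  rw [sub_pow' k, h, sub_self]

/-- linear roots of functionals -/
theorem exists_root_functional {V : Type*} [AddCommGroup V] [Module k V] (j : ℕ) (f : V → k)
    (hadd : ∀ x y, f (x + y) = f x + f y) (hsmul : ∀ (c : k) x, f (c • x) = c ^ p ^ j * f x) :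
    ∃ lam : V →ₗ[k] k, ∀ x, lam x ^ p ^ j = f x := by
  choose g hg using fun x => exists_root_k p j (f x)
  refine ⟨{ toFun := g, map_add' := fun x y => ?_, map_smul' := fun c x => ?_ }, hg⟩
  · apply pow_inj p j
    rw [add_pow' k, hg, hg, hg, hadd]
  · apply pow_inj p j
    rw [RingHom.id_apply, smul_eq_mul, mul_pow, hg, hg, hsmul]

theorem mem_Fr_iff (j : ℕ) {X : Submodule k (P π)} {a : P π} : a ∈ Fr p j X ↔ ∃ x ∈ X, F p j x = a := by
  constructor
  · intro h
    induction h using Submodule.span_induction with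
    | mem x hx => exact hx
    | zero => exact ⟨0, zero_mem _, map_zero _⟩
    | add x y _ _ hx hy =>
      obtain ⟨x', hx', rfl⟩ := hx
      obtain ⟨y', hy', rfl⟩ := hy
      exact ⟨x' + y', add_mem hx' hy', map_add _ _ _⟩
    | smul c x _ hx =>
      obtain ⟨x', hx', rfl⟩ := hx
      obtain ⟨d, rfl⟩ := exists_root_k p j c
      exact ⟨d • x', Submodule.smul_mem _ _ hx', F_smul p j d x'⟩
  · rintro ⟨x, hx, rfl⟩
    exact F_mem_Fr p j hx

/-- coefficients of `p ^ j`-th powers are `p ^ j`-th powers -/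
theorem exists_coeffMap_eq_pow [c : Comod k B (P π)] (h : Ext ψ π)
    (hc : ∀ a : P π, incl ψ π (Comod.coact (k := k) (A := B) a) = D k A (a : A))
    (j : ℕ) (θ : P π →ₗ[k] k) : ∃ lam : P π →ₗ[k] k, (∀ x, lam x ^ p ^ j = θ (F p j x)) ∧
      (∀ a, coeffMap B θ (F p j a) = coeffMap B lam a ^ p ^ j) ∧
      ∀ a, dl (B := B) θ (F p j a) = dl (B := B) lam a ^ p ^ j := by
  obtain ⟨lam, hl⟩ := exists_root_functional p j (fun x : P π => θ (F p j x))
    (fun x y => by simp only [map_add]) (fun c x => by simp only [F_smul, map_smul, smul_eq_mul])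
  exact ⟨lam, hl, coeffMap_F p h hc j θ lam hl, dl_F p h hc j θ lam hl⟩

end perfect

/-- nilpotent elements of a noetherian ring are killed by a power of Frobenius -/
theorem exists_nil_pow (R : Type v) [CommRing R] [IsNoetherianRing R] (q : ℕ) (hq : 1 < q) :
    ∃ n : ℕ, ∀ b : R, IsNilpotent b → b ^ q ^ n = 0 := by
  obtain ⟨m, hm⟩ := IsNoetherianRing.isNilpotent_nilradical R
  refine ⟨m, fun b hb => ?_⟩
  have h1 : b ^ m ∈ nilradical R ^ m := Ideal.pow_mem_pow (mem_nilradical.2 hb) m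
  rw [hm] at h1
  have h2 : b ^ m = 0 := h1
  have h3 : m ≤ q ^ m := (Nat.lt_pow_self hq).le
  rw [← Nat.sub_add_cancel h3, pow_add, h2, mul_zero]

end K503.CrPow
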