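import Groth.Agent.SGA3.K503.CaseB

/-!
# Splitting of extensions with smooth unipotent kernel and connected base
-/

set_option autoImplicit false

universe u

open TensorProduct WithConv HopfRep

namespace K503.Case3

open K503.Frame K503.CrMod K503.GoodSp K503.QuotExt K503.Perf K503.Case2 K503.BCExt K503.CaseA K503.CaseB

variable {k : Type u} [Field k]

theorem smooth_of_surjective {A D : Type u} [CommRing A] [Algebra k A] [CommRing D] [Algebra k D] (f : A →ₐ[k] D)
    (hf : Function.Surjective f) (L : Ideal A) (hL : ∀ a, a ∈ L ↔ f a = 0) :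
    Algebra.FormallySmooth k D ↔ Algebra.FormallySmooth k (A ⧸ L) := by
  have h1 : L = RingHom.ker f := by
    ext a
    exact hL a
  subst h1
  let e := Ideal.quotientKerAlgEquivOfSurjective hf
  exact ⟨fun _ => Algebra.FormallySmooth.of_equiv e.symm, fun _ => Algebra.FormallySmooth.of_equiv e⟩

theorem kerI_psiQ {A B : Type u} [CommRing A] [HopfAlgebra k A] [CommRing B] [HopfAlgebra k B]
    (ψ : B →ₐc[k] A) (I : Ideal A) [I.IsHopfIdeal k] : kerI (psiQ ψ I) = (kerI ψ).map (Ideal.Quotient.mk I) := by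
  apply le_antisymm
  · rw [kerI_eq, Ideal.span_le]
    rintro _ ⟨b, hb, rfl⟩
    refine Ideal.mem_map_of_mem (Ideal.Quotient.mk I) ?_
    exact Ideal.subset_span ⟨b, hb, rfl⟩
  · rw [Ideal.map_le_iff_le_comap, kerI_eq, Ideal.span_le]
    rintro _ ⟨b, hb, rfl⟩
    rw [SetLike.mem_coe, Ideal.mem_comap, kerI_eq]
    exact Ideal.subset_span ⟨b, hb, rfl⟩

/-- good spaces for smooth kernels -/
theorem exists_good_smooth (p : ℕ) [Fact p.Prime] [CharP k p] {A B C : Type u} [CommRing A] [HopfAlgebra k A]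
    [CommRing B] [HopfAlgebra k B] [CommRing C] [HopfAlgebra k C]
    {ψ : B →ₐc[k] A} {π : A →ₐc[k] C} [Algebra.FiniteType k B] [Algebra.FiniteType k C]
    [Algebra.FormallySmooth k C] (h : Ext ψ π)
    (μ : B →ₗ[k] k) (hμ1 : μ 1 = 1)
    (hμ : ∀ e, μ.rTensor B (Coalgebra.comul (R := k) e) = μ e ⊗ₜ[k] (1 : B))
    (hconn : ∀ e : B, IsIdempotentElem e → e = 0 ∨ e = 1) (hne : ∃ a ∈ P π, π a ≠ 0) :
    ∃ W : Submodule k A, Good ψ π (K503.Case2.counitB k A) W ∧
      Algebra.FormallySmooth k (C ⧸ Ideal.span ((W.map (π : A →ₐ[k] C).toLinearMap : Submodule k C) : Set C)) := by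
  by_cases h1 : ∃ a ∈ P π, π a ∉ RingHom.ker (Bialgebra.counitAlgHom k C) ^ 2
  · exact exists_goodA p h μ hμ1 hμ h1
  · refine exists_goodB p h μ hμ1 hμ hconn (fun f hf => ?_) hne
    obtain ⟨a, ha, rfl⟩ := exists_mem_P h (mem_prim.1 hf)
    by_contra h2
    exact h1 ⟨a, ha, h2⟩

/-- **Splitting for smooth unipotent kernels and connected bases.** -/
theorem exists_retraction_smooth (p : ℕ) [Fact p.Prime] [CharP k p] (A B : Type u) [CommRing A] [HopfAlgebra k A]
    [Algebra.FiniteType k A] [CommRing B] [HopfAlgebra k B] [Algebra.FiniteType k B]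
    (hB : SGA3b.IsMultTypeConst k B) (ψ : B →ₐc[k] A) (hψ : Function.Injective ψ)
    (J : Ideal A) [J.IsHopfIdeal k]
    (hJ : J = Ideal.map (ψ : B →+* A) (RingHom.ker (Bialgebra.counitAlgHom k B)))
    (hU : HopfRep.IsUnipotent k (A ⧸ J)) (hsm : Algebra.FormallySmooth k (A ⧸ J))
    (hconn : ∀ e : B, IsIdempotentElem e → e = 0 ∨ e = 1) :
    ∃ r : A →ₐc[k] B, r.comp ψ = BialgHom.id k B := by
  obtain ⟨μ, hμ⟩ := exists_int hB
  have : IsNoetherianRing A := isNoetherianRing_of_fg (k := k)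
  have hJ' : J = kerI ψ := hJ
  have h := ext_mk ψ hψ J hJ
  let S : Set (Ideal A) := {I | I.IsHopfIdeal k ∧ (∀ b, ψ b ∈ I → b = 0) ∧
    Algebra.FormallySmooth k (A ⧸ (I ⊔ kerI ψ))}
  have hS : S.Nonempty := by
    refine ⟨⊥, isHopfIdeal_bot, ?_, ?_⟩
    · intro b hb
      apply hψ
      exact hb.trans (map_zero (ψ : B →ₐ[k] A)).symm
    · rw [bot_sup_eq, ← hJ']
      exact hsm
  obtain ⟨I, ⟨hI, hI0, hIs⟩, hmax⟩ := set_has_maximal_iff_noetherian.2
    (inferInstance : IsNoetherian A A) S hS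
  have hK := isHopfIdeal_kerI (psiQ ψ I)
  have h' := ext_kerI (psiQ ψ I) (psiQ_injective ψ I hI0)
  have hU' := isUnipotent_quot ψ I h hU
  -- the kernel of the quotient extension
  let π' : (A ⧸ I) →ₐc[k] ((A ⧸ I) ⧸ kerI (psiQ ψ I)) := Bialgebra.Quotient.mkBialgHom (R := k) (kerI (psiQ ψ I))
  let f₀ : A →ₐ[k] (A ⧸ I) ⧸ kerI (psiQ ψ I) := (Ideal.Quotient.mkₐ k (kerI (psiQ ψ I))).comp (Ideal.Quotient.mkₐ k I)
  have hkerI : kerI (psiQ ψ I) = (kerI ψ).map (Ideal.Quotient.mk I) := kerI_psiQ ψ I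
  have hf₀ : ∀ a, a ∈ I ⊔ kerI ψ ↔ f₀ a = 0 := by
    intro a
    have h1 : f₀ a = 0 ↔ Ideal.Quotient.mk I a ∈ kerI (psiQ ψ I) := Ideal.Quotient.eq_zero_iff_mem
    rw [h1, hkerI, ← Ideal.mem_comap, Ideal.comap_map_of_surjective _ Ideal.Quotient.mk_surjective, ← RingHom.ker_eq_comap_bot,
      Ideal.mk_ker, sup_comm]
  have hsm' : Algebra.FormallySmooth k ((A ⧸ I) ⧸ kerI (psiQ ψ I)) := by
    rw [smooth_of_surjective f₀ (Ideal.Quotient.mk_surjective.comp Ideal.Quotient.mk_surjective) _ hf₀]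
    exact hIs
  have hs : Function.Surjective (psiQ ψ I) := by
    apply surjective_of_top h' hU'
    by_contra hne
    push Not at hne
    obtain ⟨W, hW, hWs⟩ := exists_good_smooth p h' μ hμ.one hμ.left hconn hne
    have hWh := hW.hopf
    obtain ⟨I', hI', hmem⟩ := exists_comap (k := k) I (Ideal.span (W : Set (A ⧸ I)))
    have hII' : I ≤ I' := by
      intro a ha
      rw [hmem, Ideal.Quotient.eq_zero_iff_mem.2 ha]
      exact Ideal.zero_mem _
    refine hmax I' ⟨hI', ?_, ?_⟩ ?_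
    · intro b hb
      rw [hmem] at hb
      exact hW.cut h' (b := b) hb
    · -- smoothness
      set L : Ideal ((A ⧸ I) ⧸ kerI (psiQ ψ I)) := Ideal.span ((W.map
        (Bialgebra.Quotient.mkBialgHom (R := k) (kerI (psiQ ψ I)) : (A ⧸ I) →ₐ[k] ((A ⧸ I) ⧸ kerI (psiQ ψ I))).toLinearMap :
          Submodule k ((A ⧸ I) ⧸ kerI (psiQ ψ I))) : Set ((A ⧸ I) ⧸ kerI (psiQ ψ I))) with hL
      have hLmap : L = (Ideal.span (W : Set (A ⧸ I))).map (Ideal.Quotient.mk (kerI (psiQ ψ I))) := by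
        rw [Ideal.map_span]
        rfl
      refine (smooth_of_surjective ((Ideal.Quotient.mkₐ k L).comp f₀) ?_ _ ?_).1 hWs
      · exact Ideal.Quotient.mk_surjective.comp (Ideal.Quotient.mk_surjective.comp Ideal.Quotient.mk_surjective)
      · intro a
        have h1 : ((Ideal.Quotient.mkₐ k L).comp f₀) a = 0 ↔
            Ideal.Quotient.mk (kerI (psiQ ψ I)) (Ideal.Quotient.mk I a) ∈ L := Ideal.Quotient.eq_zero_iff_mem
        have hI'map : I'.map (Ideal.Quotient.mk I) = Ideal.span (W : Set (A ⧸ I)) := by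
          have h2 : I' = (Ideal.span (W : Set (A ⧸ I))).comap (Ideal.Quotient.mk I) := by
            ext a
            exact hmem a
          rw [h2, Ideal.map_comap_of_surjective _ Ideal.Quotient.mk_surjective]
        rw [h1, hLmap, ← Ideal.mem_comap, Ideal.comap_map_of_surjective _ Ideal.Quotient.mk_surjective,
          ← RingHom.ker_eq_comap_bot, Ideal.mk_ker, hkerI, ← hI'map, ← Ideal.map_sup, ← Ideal.mem_comap,
          Ideal.comap_map_of_surjective _ Ideal.Quotient.mk_surjective, ← RingHom.ker_eq_comap_bot, Ideal.mk_ker,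
          sup_eq_left.2 (hII'.trans le_sup_left)]
    · refine lt_of_le_of_ne hII' ?_
      intro heq
      obtain ⟨w, hw, hw0⟩ := (Submodule.ne_bot_iff W).1 hW.ne
      obtain ⟨a, rfl⟩ := Ideal.Quotient.mk_surjective w
      have h1 : a ∈ I' := (hmem a).2 (Ideal.subset_span hw)
      rw [← heq] at h1
      exact hw0 (Ideal.Quotient.eq_zero_iff_mem.2 h1)
  obtain ⟨s, hs1, -⟩ := exists_retraction_of_surjective ψ I hI0 hs
  exact ⟨s, hs1⟩

end K503.Case3
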