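import Groth.Agent.SGA3.K503.Frame
import Groth.Agent.Sga3.H808.Retract
import Groth.Agent.SGA3b.K201.Antipode

/-!
# The extension defined by a Hopf ideal meeting the base trivially

`ψ : B → A` an injective map of Hopf algebras, `I` a Hopf ideal of `A` with `ψ⁻¹(I) = 0`. Then `B → A/I` is injective and
`1 → Spec (A/I)/(ψ B⁺) → Spec A/I → Spec B → 1` is an extension (`quot_ext`).
-/

set_option autoImplicit false

universe u v

open TensorProduct WithConv HopfRep

namespace K503.QuotExt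

open K503.Frame

variable {k : Type u} [Field k] {A B C : Type v} [CommRing A] [HopfAlgebra k A]
  [CommRing B] [HopfAlgebra k B] [CommRing C] [HopfAlgebra k C]

/-- the ideal of the kernel -/
noncomputable def kerI (ψ : B →ₐc[k] A) : Ideal A :=
  Ideal.map (ψ : B →ₐ[k] A) (RingHom.ker (Bialgebra.counitAlgHom k B))

theorem kerI_eq (ψ : B →ₐc[k] A) : kerI ψ =
    Ideal.span ((ψ : B →ₐ[k] A) '' (RingHom.ker (Bialgebra.counitAlgHom k B) : Set B)) := rfl

theorem mk_psi (ψ : B →ₐc[k] A) (b : B) : Ideal.Quotient.mkₐ k (kerI ψ) (ψ b) =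
    algebraMap k (A ⧸ kerI ψ) (Coalgebra.counit (R := k) b) := by
  have h1 : ψ (b - algebraMap k B (Coalgebra.counit (R := k) b)) ∈ kerI ψ := by
    refine Ideal.subset_span ⟨_, ?_, rfl⟩
    change Coalgebra.counit (R := k) (b - algebraMap k B (Coalgebra.counit (R := k) b)) = 0
    rw [map_sub, Bialgebra.counit_algebraMap, sub_self]
  have h2 := Ideal.Quotient.eq_zero_iff_mem.2 h1
  have h3 : ψ (b - algebraMap k B (Coalgebra.counit (R := k) b)) =
      ψ b - algebraMap k A (Coalgebra.counit (R := k) b) := by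
    have h4 := map_sub (ψ : B →ₐ[k] A) b (algebraMap k B (Coalgebra.counit (R := k) b))
    rw [AlgHom.commutes] at h4
    exact h4
  rw [h3, map_sub, sub_eq_zero] at h2
  exact h2

theorem isHopfIdeal_kerI (ψ : B →ₐc[k] A) : (kerI ψ).IsHopfIdeal k := by
  rw [kerI_eq]
  refine Groth.Agent.Sga3.H808.Cut.isHopfIdeal_span_of _ ?_ ?_ ?_
  · rintro _ ⟨b, hb, rfl⟩
    change Coalgebra.counit (R := k) (ψ b) = 0
    rw [CoalgHomClass.counit_comp_apply]
    exact hb
  · rintro _ ⟨b, hb, rfl⟩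
    have h1 : CoalgebraStruct.comul (R := k) (ψ b) = TensorProduct.map (ψ : B →ₐ[k] A).toLinearMap
      (ψ : B →ₐ[k] A).toLinearMap (Coalgebra.comul (R := k) b) := (CoalgHomClass.map_comp_comul_apply ψ b).symm
    refine (congrArg _ h1).trans ?_
    have h2 : ∀ z : B ⊗[k] B, Algebra.TensorProduct.map (Ideal.Quotient.mkₐ k (kerI ψ))
      (Ideal.Quotient.mkₐ k (kerI ψ)) (TensorProduct.map (ψ : B →ₐ[k] A).toLinearMap
      (ψ : B →ₐ[k] A).toLinearMap z) = TensorProduct.map (Algebra.linearMap k (A ⧸ kerI ψ))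
        (Algebra.linearMap k (A ⧸ kerI ψ)) ((Coalgebra.counit (R := k) (A := B)).lTensor k
          ((Coalgebra.counit (R := k) (A := B)).rTensor B z)) := by
      intro z
      induction z with
      | zero => rw [map_zero, map_zero, map_zero, map_zero, map_zero]
      | add x y hx hy => rw [map_add, map_add, map_add, map_add, map_add, hx, hy]
      | tmul x y =>
        rw [TensorProduct.map_tmul, Algebra.TensorProduct.map_tmul, LinearMap.rTensor_tmul, LinearMap.lTensor_tmul,
          TensorProduct.map_tmul]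
        exact congrArg₂ (fun u v => u ⊗ₜ[k] v) (mk_psi ψ x) (mk_psi ψ y)
    refine (h2 _).trans ?_
    rw [Coalgebra.rTensor_counit_comul, LinearMap.lTensor_tmul]
    have h3 : Coalgebra.counit (R := k) b = 0 := hb
    rw [h3, TensorProduct.tmul_zero]
    exact map_zero _
  · rintro _ ⟨b, hb, rfl⟩
    have h1 : HopfAlgebra.antipode k (ψ b) = ψ (HopfAlgebra.antipode k b) := K201.Antipode.antipode_apply ψ b
    refine (congrArg (· ∈ Ideal.span ((ψ : B →ₐ[k] A) ''
      (RingHom.ker (Bialgebra.counitAlgHom k B) : Set B))) h1).mpr ?_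
    refine Ideal.subset_span ⟨_, ?_, rfl⟩
    change Coalgebra.counit (R := k) (HopfAlgebra.antipode k b) = 0
    rw [HopfAlgebra.counit_antipode]
    exact hb

/-- the standard extension -/
theorem ext_kerI (ψ : B →ₐc[k] A) (hψ : Function.Injective ψ) [(kerI ψ).IsHopfIdeal k] :
    Ext ψ (Bialgebra.Quotient.mkBialgHom (R := k) (kerI ψ)) where
  inj := hψ
  surj := Ideal.Quotient.mk_surjective
  ker := Ideal.mk_ker (I := kerI ψ)

section quot

variable (ψ : B →ₐc[k] A) (I : Ideal A) [I.IsHopfIdeal k]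

/-- the composite `B → A → A/I` -/
noncomputable def psiQ : B →ₐc[k] A ⧸ I := (Bialgebra.Quotient.mkBialgHom (R := k) I).comp ψ

theorem psiQ_apply (b : B) : psiQ ψ I b = Ideal.Quotient.mk I (ψ b) := rfl

theorem psiQ_injective (hI : ∀ b, ψ b ∈ I → b = 0) : Function.Injective (psiQ ψ I) := by
  rw [injective_iff_map_eq_zero]
  intro b hb
  exact hI b (Ideal.Quotient.eq_zero_iff_mem.1 hb)

/-- the kernel of the quotient extension is a quotient of the kernel -/
theorem isUnipotent_quot {π : A →ₐc[k] C} (h : Ext ψ π) (hU : HopfRep.IsUnipotent k C)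
    [(kerI (psiQ ψ I)).IsHopfIdeal k] : HopfRep.IsUnipotent k ((A ⧸ I) ⧸ kerI (psiQ ψ I)) := by
  let p : A →ₐc[k] ((A ⧸ I) ⧸ kerI (psiQ ψ I)) := (Bialgebra.Quotient.mkBialgHom (R := k) (kerI (psiQ ψ I))).comp
    (Bialgebra.Quotient.mkBialgHom (R := k) I)
  have hp : Function.Surjective p := by
    intro c
    obtain ⟨c, rfl⟩ := Ideal.Quotient.mk_surjective c
    obtain ⟨a, rfl⟩ := Ideal.Quotient.mk_surjective c
    exact ⟨a, rfl⟩
  have hle : RingHom.ker (π : A →ₐ[k] C) ≤ RingHom.ker (p : A →ₐ[k] ((A ⧸ I) ⧸ kerI (psiQ ψ I))) := by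
    rw [h.ker, Ideal.map_le_iff_le_comap]
    intro b hb
    rw [Ideal.mem_comap, RingHom.mem_ker]
    have h1 := mk_psi (psiQ ψ I) b
    have h2 : Coalgebra.counit (R := k) b = 0 := hb
    rw [h2, map_zero] at h1
    exact h1
  have : (RingHom.ker (π : A →ₐ[k] C)).IsHopfIdeal k := by
    rw [h.ker]
    exact isHopfIdeal_kerI ψ
  refine Groth.Agent.Sga3.H808.Retract.isUnipotent_of_surjective
    (Groth.Agent.Books.NormalKer.liftBialg (RingHom.ker (π : A →ₐ[k] C)) p (fun a ha => hle ha)) ?_ ?_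
  · intro c
    obtain ⟨a, rfl⟩ := hp c
    exact ⟨Ideal.Quotient.mk _ a, rfl⟩
  · -- `A / ker π` is isomorphic to `C`
    let e := Groth.Agent.Books.NormalKer.liftBialg (RingHom.ker (π : A →ₐ[k] C)) π (fun a ha => ha)
    have he : Function.Bijective e := by
      constructor
      · rw [injective_iff_map_eq_zero]
        intro x hx
        obtain ⟨a, rfl⟩ := Ideal.Quotient.mk_surjective x
        exact Ideal.Quotient.eq_zero_iff_mem.2 hx
      · intro c
        obtain ⟨a, rfl⟩ := h.surj c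
        exact ⟨Ideal.Quotient.mk _ a, rfl⟩
    let e' := BialgEquiv.ofBijective e he
    exact Groth.Agent.Sga3.H808.Retract.isUnipotent_of_surjective
      (e'.symm : C →ₐc[k] (A ⧸ RingHom.ker (π : A →ₐ[k] C))) e'.symm.surjective hU

end quot

/-- a bijective `ψ` modulo a Hopf ideal gives a retraction -/
theorem exists_retraction_of_surjective (ψ : B →ₐc[k] A) (I : Ideal A) [I.IsHopfIdeal k] (hI : ∀ b, ψ b ∈ I → b = 0)
    (hs : Function.Surjective (psiQ ψ I)) : ∃ r : A →ₐc[k] B, r.comp ψ = BialgHom.id k B ∧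
      ∀ a, r a = 0 ↔ a ∈ I := by
  let e : B ≃ₐc[k] (A ⧸ I) := BialgEquiv.ofBijective (psiQ ψ I) ⟨psiQ_injective ψ I hI, hs⟩
  refine ⟨(e.symm : (A ⧸ I) →ₐc[k] B).comp (Bialgebra.Quotient.mkBialgHom (R := k) I), ?_, ?_⟩
  · apply BialgHom.ext
    intro b
    exact e.symm_apply_apply b
  · intro a
    rw [← Ideal.Quotient.eq_zero_iff_mem]
    change e.symm (Ideal.Quotient.mk I a) = 0 ↔ _
    constructor
    · intro h
      have h1 := congrArg e h
      rw [BialgEquiv.apply_symm_apply] at h1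
      rw [h1]
      exact map_zero (psiQ ψ I : B →ₐ[k] A ⧸ I)
    · intro h
      rw [h]
      exact map_zero ((e.symm : (A ⧸ I) →ₐc[k] B) : (A ⧸ I) →ₐ[k] B)

end K503.QuotExt
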