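import Groth.Agent.SGA3.K503.CrLin
import Groth.Agent.SGA3.K203.Desc

/-!
# Base change of extensions
-/

set_option autoImplicit false

universe u

open TensorProduct WithConv HopfRep

namespace K503.BCExt

open Groth.Agent.Books.NormalKer Groth.Agent.Books.CoidealFlat
open K503.Frame K503.CrMod K503.CrLin Groth.Agent.Sga3.H809.Transfer Groth.Agent.Sga3A.MTBasis

variable {k : Type u} [Field k] {A B C : Type u} [CommRing A] [HopfAlgebra k A] [CommRing B] [HopfAlgebra k B]
  [CommRing C] [HopfAlgebra k C] (K : Type u) [Field K] [Algebra k K]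

variable {ψ : B →ₐc[k] A} {π : A →ₐc[k] C}

theorem ker_bcHom (π : A →ₐc[k] C) (hπ : Function.Surjective π) :
    RingHom.ker (bcHom K π : (K ⊗[k] A) →ₐ[K] (K ⊗[k] C)) =
      (RingHom.ker (π : A →ₐ[k] C)).map (Algebra.TensorProduct.includeRight : A →ₐ[k] K ⊗[k] A) := by
  have h1 := Algebra.TensorProduct.lTensor_ker (A := K) (π : A →ₐ[k] C) hπ
  rw [← h1]
  rfl

/-- base change of an extension -/
theorem ext_bc (h : Ext ψ π) : Ext (bcHom K ψ) (bcHom K π) where
  inj := bcHom_injective K ψ h.inj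
  surj := bcHom_surjective K π h.surj
  ker := by
    rw [ker_bcHom K π h.surj, h.ker]
    exact (K203.Desc.kerIdeal_bcHom K ψ).symm

/-- the injection `A ⊗ C → (K ⊗ A) ⊗_K (K ⊗ C)` -/
noncomputable def ii {V W : Type u} [AddCommGroup V] [Module k V] [AddCommGroup W] [Module k W] :
    V ⊗[k] W →ₗ[k] (K ⊗[k] V) ⊗[K] (K ⊗[k] W) :=
  ((TensorProduct.AlgebraTensorModule.distribBaseChange k K V W).toLinearMap.restrictScalars k) ∘ₗ
    TensorProduct.mk k K (V ⊗[k] W) 1

theorem ii_apply {V W : Type u} [AddCommGroup V] [Module k V] [AddCommGroup W] [Module k W] (z : V ⊗[k] W) :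
    ii K z = TensorProduct.AlgebraTensorModule.distribBaseChange k K V W ((1 : K) ⊗ₜ z) := rfl

theorem ii_tmul {V W : Type u} [AddCommGroup V] [Module k V] [AddCommGroup W] [Module k W] (x : V) (y : W) :
    ii K (x ⊗ₜ[k] y) = ((1 : K) ⊗ₜ[k] x) ⊗ₜ[K] ((1 : K) ⊗ₜ[k] y) := by
  rw [ii_apply]; simp

theorem ii_injective {V W : Type u} [AddCommGroup V] [Module k V] [AddCommGroup W] [Module k W] :
    Function.Injective (ii (k := k) K (V := V) (W := W)) := by
  intro x y h
  have h1 := (TensorProduct.AlgebraTensorModule.distribBaseChange k K V W).injective h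
  exact Module.FaithfullyFlat.tensorProduct_mk_injective (A := k) (B := K) (V ⊗[k] W) h1

theorem comul_one (a : A) : Coalgebra.comul (R := K) ((1 : K) ⊗ₜ[k] a) = ii K (Coalgebra.comul (R := k) a) :=
  comul_one_tmul a

theorem counit_one (a : A) : Coalgebra.counit (R := K) ((1 : K) ⊗ₜ[k] a) =
    algebraMap k K (Coalgebra.counit (R := k) a) := by
  rw [TensorProduct.counit_tmul, Algebra.algebraMap_eq_smul_one, Bialgebra.counit_one]

theorem map_ii {V W V' W' : Type u} [AddCommGroup V] [Module k V] [AddCommGroup W] [Module k W] [AddCommGroup V']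
    [Module k V'] [AddCommGroup W'] [Module k W'] (f : V →ₗ[k] V') (g : W →ₗ[k] W')
    (f' : (K ⊗[k] V) →ₗ[K] (K ⊗[k] V')) (g' : (K ⊗[k] W) →ₗ[K] (K ⊗[k] W'))
    (hf : ∀ x, f' ((1 : K) ⊗ₜ[k] x) = (1 : K) ⊗ₜ[k] f x) (hg : ∀ x, g' ((1 : K) ⊗ₜ[k] x) = (1 : K) ⊗ₜ[k] g x)
    (z : V ⊗[k] W) : TensorProduct.map f' g' (ii K z) = ii K (TensorProduct.map f g z) := by
  induction z with
  | zero => simp
  | add x y hx hy => rw [map_add, map_add, hx, hy, map_add, map_add]
  | tmul x y => rw [ii_tmul, TensorProduct.map_tmul, TensorProduct.map_tmul, ii_tmul, hf, hg]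

theorem D_bc (a : A) : D K (K ⊗[k] A) ((1 : K) ⊗ₜ[k] a) = ii K (D k A a) := by
  rw [D_apply, D_apply, map_sub, ii_tmul, comul_one]
  rfl

theorem rho_bc (π : A →ₐc[k] C) (a : A) : rho (bcHom K π) ((1 : K) ⊗ₜ[k] a) = ii K (rho π a) := by
  rw [rho_apply, rho_apply, comul_one]
  exact map_ii K LinearMap.id (π : A →ₐ[k] C).toLinearMap LinearMap.id (bcHom K π : (K ⊗[k] A) →ₐ[K] (K ⊗[k] C)).toLinearMap
    (fun _ => rfl) (fun _ => rfl) _

theorem one_mem_P {a : A} (ha : a ∈ P π) : (1 : K) ⊗ₜ[k] a ∈ P (bcHom K π) := by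
  rw [mem_P] at ha ⊢
  rw [rho_bc, ha, map_add, ii_tmul, ii_tmul]
  rfl

/-- the primitive elements -/
noncomputable def prim (k : Type u) [Field k] (C : Type u) [CommRing C] [HopfAlgebra k C] : Submodule k C :=
  LinearMap.ker ((Coalgebra.comul (R := k) (A := C)) - ((TensorProduct.mk k C C).flip 1 + TensorProduct.mk k C C 1))

theorem mem_prim {c : C} : c ∈ prim k C ↔ Coalgebra.comul (R := k) c = c ⊗ₜ[k] (1 : C) + (1 : C) ⊗ₜ[k] c := by
  rw [prim, LinearMap.mem_ker, LinearMap.sub_apply, sub_eq_zero]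
  rfl

theorem prim_bc {g : K ⊗[k] C} (hg : g ∈ prim K (K ⊗[k] C)) :
    g ∈ LinearMap.range ((prim k C).subtype.lTensor K) := by
  let δ : C →ₗ[k] C ⊗[k] C := (Coalgebra.comul (R := k) (A := C)) -
    ((TensorProduct.mk k C C).flip 1 + TensorProduct.mk k C C 1)
  have hex : Function.Exact (prim k C).subtype δ := by
    intro x
    constructor
    · intro hx
      exact ⟨⟨x, hx⟩, rfl⟩
    · rintro ⟨y, rfl⟩
      exact y.2
  have h1 := Module.Flat.lTensor_exact (R := k) K hex
  refine (h1 _).1 ?_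
  apply (TensorProduct.AlgebraTensorModule.distribBaseChange k K C C).injective
  rw [map_zero]
  rw [mem_prim] at hg
  have key : ∀ z : K ⊗[k] C, TensorProduct.AlgebraTensorModule.distribBaseChange k K C C (δ.lTensor K z) =
      Coalgebra.comul (R := K) z - (z ⊗ₜ[K] (1 : K ⊗[k] C) + (1 : K ⊗[k] C) ⊗ₜ[K] z) := by
    intro z
    induction z with
    | zero => simp
    | add x y hx hy =>
      rw [map_add, map_add, hx, hy, map_add, TensorProduct.add_tmul, TensorProduct.tmul_add]
      abel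
    | tmul c x =>
      have h2 : c ⊗ₜ[k] x = c • ((1 : K) ⊗ₜ[k] x) := by
        rw [TensorProduct.smul_tmul', smul_eq_mul, mul_one]
      have h3 : δ.lTensor K (c ⊗ₜ[k] x) = c • ((1 : K) ⊗ₜ[k] δ x) := by
        rw [LinearMap.lTensor_tmul, TensorProduct.smul_tmul', smul_eq_mul, mul_one]
      rw [h3, map_smul, h2, map_smul, TensorProduct.tmul_smul, ← TensorProduct.smul_tmul', ← smul_add]
      refine Eq.trans ?_ (smul_sub c _ _)
      congr 1
      have h4 : TensorProduct.AlgebraTensorModule.distribBaseChange k K C C ((1 : K) ⊗ₜ[k] δ x) = ii K (δ x) := rfl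
      rw [h4, comul_one]
      change ii K (Coalgebra.comul (R := k) x - (x ⊗ₜ[k] (1 : C) + (1 : C) ⊗ₜ[k] x)) = _
      rw [map_sub, map_add, ii_tmul, ii_tmul]
      rfl
  rw [key, hg, sub_self]

/-- the augmentation ideal of a base change -/
theorem aug_bc : RingHom.ker (Bialgebra.counitAlgHom K (K ⊗[k] C)) =
    (RingHom.ker (Bialgebra.counitAlgHom k C)).map (Algebra.TensorProduct.includeRight : C →ₐ[k] K ⊗[k] C) := by
  have h1 := Algebra.TensorProduct.lTensor_ker (A := K) (Bialgebra.counitAlgHom k C) (by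
    intro x
    exact ⟨algebraMap k C x, Bialgebra.counit_algebraMap x⟩)
  rw [← h1]
  ext z
  rw [RingHom.mem_ker, RingHom.mem_ker]
  have h2 : ∀ z : K ⊗[k] C, Algebra.TensorProduct.rid k K K
      (Algebra.TensorProduct.map (AlgHom.id K K) (Bialgebra.counitAlgHom k C) z) =
      Bialgebra.counitAlgHom K (K ⊗[k] C) z := by
    intro z
    induction z with
    | zero => simp
    | add x y hx hy => rw [map_add, map_add, map_add, hx, hy]
    | tmul x y =>
      rw [Algebra.TensorProduct.map_tmul, Algebra.TensorProduct.rid_tmul]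
      change _ = Coalgebra.counit (R := K) (x ⊗ₜ[k] y)
      rw [TensorProduct.counit_tmul]
      rfl
  constructor
  · intro hz
    apply (Algebra.TensorProduct.rid k K K).injective
    rw [map_zero, ← hz, ← h2]
    rfl
  · intro hz
    rw [← h2]
    have h3 : Algebra.TensorProduct.map (AlgHom.id K K) (Bialgebra.counitAlgHom k C) z = 0 := hz
    rw [h3, map_zero]

end K503.BCExt
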