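import Groth.Agent.SGA3.K503.Conj
import Groth.Agent.SGA3.K503.BCExt
import Groth.Agent.SGA3.K503.Case2
import Groth.Agent.SGA3.K520.PrimQuot
import Groth.Agent.CalgB.SmoothReduced

/-!
# Smooth kernels with an additive function with nonzero differential

`exists_goodA` : for an extension with smooth kernel with an additive function on the kernel which does not lie in the square
of the augmentation ideal there is a good space of functions such that the quotient of the kernel is smooth.
-/

set_option autoImplicit false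

universe u

open TensorProduct WithConv HopfRep

namespace K503.CaseA

open Groth.Agent.Books.NormalKer Groth.Agent.Books.CoidealFlat Groth.Agent.Books.ComodBasic
open Groth.Agent.Books.ComodHom K503.Frame K503.CrMod K503.CrLin K503.CrPow K503.Steps K503.Conj K503.BCExt
open K503.GoodSp Groth.Agent.Sga3.H809.Transfer

variable {k : Type u} [Field k] {A B C : Type u} [CommRing A] [HopfAlgebra k A]
  [CommRing B] [HopfAlgebra k B] [CommRing C] [HopfAlgebra k C]
  {ψ : B →ₐc[k] A} {π : A →ₐc[k] C}

section bc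

variable (K : Type u) [Field K] [Algebra k K]

/-- base change of elements of `P` -/
noncomputable def iP : P π →+ P (bcHom K π) where
  toFun a := ⟨(1 : K) ⊗ₜ[k] (a : A), one_mem_P K a.2⟩
  map_zero' := Subtype.ext (TensorProduct.tmul_zero _ _)
  map_add' _ _ := Subtype.ext (TensorProduct.tmul_add _ _ _)

theorem coe_iP (a : P π) : ((iP K a : P (bcHom K π)) : K ⊗[k] A) = (1 : K) ⊗ₜ[k] (a : A) := rfl

theorem iP_smul (c : k) (a : P π) : iP K (c • a) = algebraMap k K c • iP K a := by
  apply Subtype.ext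
  rw [Submodule.coe_smul, coe_iP, coe_iP, Submodule.coe_smul, TensorProduct.smul_tmul', smul_eq_mul, mul_one,
    Algebra.algebraMap_eq_smul_one, TensorProduct.smul_tmul]

theorem iP_injective : Function.Injective (iP (π := π) K) := by
  intro a b h
  apply Subtype.ext
  exact Module.FaithfullyFlat.tensorProduct_mk_injective (A := k) (B := K) A (congrArg Subtype.val h)

theorem iP_F (p : ℕ) [Fact p.Prime] [CharP k p] [CharP K p] (j : ℕ) (a : P π) :
    iP K (F p j a) = F p j (iP K a) := by
  apply Subtype.ext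
  rw [coe_iP, coe_F, coe_F, coe_iP, Algebra.TensorProduct.tmul_pow, one_pow]

theorem iP_mem_Fr (p : ℕ) [Fact p.Prime] [CharP k p] [CharP K p] (j : ℕ) (Z : Submodule k (P π)) {w : P π}
    (hw : w ∈ Fr p j Z) : iP K w ∈ Fr p j (Submodule.span K (iP K '' (Z : Set (P π)))) := by
  induction hw using Submodule.span_induction with
  | mem x hx =>
    obtain ⟨a, ha, rfl⟩ := hx
    rw [iP_F]
    exact F_mem_Fr p j (Submodule.subset_span ⟨a, ha, rfl⟩)
  | zero => rw [map_zero]; exact zero_mem _
  | add x y _ _ hx hy => rw [map_add]; exact add_mem hx hy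
  | smul c x _ hx => rw [iP_smul]; exact Submodule.smul_mem _ _ hx

/-- the base change of a space of functions which meets the functions in the square of the augmentation ideal trivially -/
theorem eq_zero_of_mem_sq (Z : Submodule k (P π)) (hZ : ∀ z ∈ Z, z ∈ sq π → z = 0) (t : P (bcHom K π))
    (ht : t ∈ Submodule.span K (iP K '' (Z : Set (P π)))) (hts : t ∈ sq (bcHom K π)) : t = 0 := by
  set I : Ideal C := RingHom.ker (Bialgebra.counitAlgHom k C) ^ 2 with hI
  have h1 : ∃ y : K ⊗[k] Z, (t : K ⊗[k] A) = ((P π).subtype ∘ₗ Z.subtype).lTensor K y := by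
    clear hts
    induction ht using Submodule.span_induction with
    | mem x hx =>
      obtain ⟨a, ha, rfl⟩ := hx
      exact ⟨1 ⊗ₜ ⟨a, ha⟩, rfl⟩
    | zero => exact ⟨0, by rw [map_zero]; rfl⟩
    | add x y _ _ hx hy =>
      obtain ⟨x', hx'⟩ := hx
      obtain ⟨y', hy'⟩ := hy
      exact ⟨x' + y', by rw [map_add, Submodule.coe_add, hx', hy']⟩
    | smul c x _ hx =>
      obtain ⟨x', hx'⟩ := hx
      refine ⟨c • x', ?_⟩
      rw [Submodule.coe_smul, hx']
      have h2 : ∀ z : K ⊗[k] Z, c • ((P π).subtype ∘ₗ Z.subtype).lTensor K z =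
          ((P π).subtype ∘ₗ Z.subtype).lTensor K (c • z) := by
        intro z
        induction z with
        | zero => simp
        | add x y hx hy => rw [map_add, smul_add, hx, hy, smul_add, map_add]
        | tmul x y => rfl
      exact h2 x'
  obtain ⟨y, hy⟩ := h1
  let q : Z →ₗ[k] C ⧸ I := (Ideal.Quotient.mkₐ k I).toLinearMap ∘ₗ (π : A →ₐ[k] C).toLinearMap ∘ₗ
    (P π).subtype ∘ₗ Z.subtype
  have hq : Function.Injective q := by
    rw [injective_iff_map_eq_zero]
    intro z hz
    have h2 : π ((z : P π) : A) ∈ I := Ideal.Quotient.eq_zero_iff_mem.1 hz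
    exact Subtype.ext (hZ z z.2 h2)
  have hy0 : q.lTensor K y = 0 := by
    have h2 : q.lTensor K y = Algebra.TensorProduct.map (AlgHom.id K K) (Ideal.Quotient.mkₐ k I)
        (bcHom K π (t : K ⊗[k] A)) := by
      rw [hy]
      clear hy
      induction y with
      | zero =>
        rw [map_zero, map_zero]
        exact (map_zero (((Algebra.TensorProduct.map (AlgHom.id K K) (Ideal.Quotient.mkₐ k I))).comp
          (bcHom K π : (K ⊗[k] A) →ₐ[K] (K ⊗[k] C)))).symm
      | add x y hx hy =>
        rw [map_add, map_add, hx, hy]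
        exact (map_add (((Algebra.TensorProduct.map (AlgHom.id K K) (Ideal.Quotient.mkₐ k I))).comp
          (bcHom K π : (K ⊗[k] A) →ₐ[K] (K ⊗[k] C))) _ _).symm
      | tmul x y => rfl
    rw [h2]
    have h3 : RingHom.ker (Bialgebra.counitAlgHom K (K ⊗[k] C)) ^ 2 ≤
        RingHom.ker (Algebra.TensorProduct.map (AlgHom.id K K) (Ideal.Quotient.mkₐ k I)) := by
      rw [aug_bc, ← Ideal.map_pow, ← hI, Ideal.map_le_iff_le_comap]
      intro x hx
      rw [Ideal.mem_comap, RingHom.mem_ker]
      change (1 : K) ⊗ₜ[k] (Ideal.Quotient.mk I x) = 0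
      rw [Ideal.Quotient.eq_zero_iff_mem.2 hx, TensorProduct.tmul_zero]
    exact h3 hts
  have h3 : y = 0 := Module.Flat.lTensor_preserves_injective_linearMap (M := K) q hq (hy0.trans (map_zero _).symm)
  apply Subtype.ext
  rw [hy, h3, map_zero]
  rfl

end bc

variable (p : ℕ) [Fact p.Prime] [CharP k p]

/-- independence of the powers -/
theorem disj (h : Ext ψ π) [Algebra.FiniteType k C] [Algebra.FormallySmooth k C] (Z : Submodule k (P π))
    (hZ : ∀ z ∈ Z, z ∈ sq π → z = 0) {w : P π} (hw : w ∈ ⨆ j, Fr p j Z) (hw0 : w ∈ I0 π) : w = 0 := by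
  let K := AlgebraicClosure k
  have : CharP K p := charP_of_injective_algebraMap (algebraMap k K).injective p
  have hK := ext_bc K h
  let _ := comodP hK
  have : Algebra.FinitePresentation k C := Algebra.FinitePresentation.of_finiteType.1 inferInstance
  have : Algebra.Smooth k C := { }
  have : IsReduced (K ⊗[k] C) := Groth.Agent.CalgB.SmoothReduced.isReduced_of_smooth K (K ⊗[k] C)
  let T : Submodule K (P (bcHom K π)) := Submodule.span K (iP K '' (Z : Set (P π)))
  have h1 : iP K w ∈ ⨆ j, Fr p j T := by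
    refine Submodule.iSup_induction (Fr p · Z) (motive := fun w => iP K w ∈ ⨆ i, Fr p i T) hw ?_ ?_ ?_
    · intro j x hx
      exact Submodule.mem_iSup_of_mem j (iP_mem_Fr K p j Z hx)
    · rw [map_zero]; exact zero_mem _
    · intro x y hx hy; rw [map_add]; exact add_mem hx hy
  obtain ⟨n, t, ht, hs⟩ := exists_sum p h1
  have h2 : iP K w ∈ I0 (bcHom K π) := by
    rw [mem_I0, coe_iP, bcHom_tmul, mem_I0.1 hw0, TensorProduct.tmul_zero]
  have h3 : ∀ i < n, t i = 0 := by
    refine indep p (Y := ⊤) (T := T) (N := sq (bcHom K π)) (fun _ _ => trivial) ?_ ?_ (fun _ _ => ?_) ?_ ?_ n t ht ?_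
    · intro y _
      rw [mem_sq, pi_F]
      have h4 : bcHom K π (y : K ⊗[k] A) ∈ RingHom.ker (Bialgebra.counitAlgHom K (K ⊗[k] C)) := by
        rw [RingHom.mem_ker]
        change Coalgebra.counit (R := K) (bcHom K π (y : K ⊗[k] A)) = 0
        rw [CoalgHomClass.counit_comp_apply]
        exact counit_of_mem y.2
      refine Ideal.pow_le_pow_right (?_ : 2 ≤ p ^ 1) (Ideal.pow_mem_pow h4 _)
      rw [pow_one]
      exact (Fact.out : p.Prime).two_le
    · intro y hy
      rw [mem_sq, mem_I0.1 hy]
      exact zero_mem _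
    · exact Submodule.mem_sup_left trivial
    · intro t ht hts
      exact eq_zero_of_mem_sq K Z hZ t ht hts
    · intro y _ hy
      rw [mem_I0, pi_F] at hy
      rw [mem_I0]
      exact pow_eq_zero_iff (pow_ne_zero _ (Fact.out : p.Prime).ne_zero) |>.1 hy
    · rw [← hs]; exact h2
  apply iP_injective K
  rw [hs, map_zero]
  exact Finset.sum_eq_zero fun i hi => by rw [h3 i (Finset.mem_range.1 hi), map_zero]

/-- the ideal generated by the powers -/
theorem span_eq (Z : Submodule k (P π)) :
    Ideal.span ((((⨆ j, Fr p j Z).map (P π).subtype).map (π : A →ₐ[k] C).toLinearMap : Submodule k C) : Set C) =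
      Ideal.span (((Z.map (P π).subtype).map (π : A →ₐ[k] C).toLinearMap : Submodule k C) : Set C) := by
  apply le_antisymm
  · rw [Ideal.span_le]
    rintro _ ⟨_, ⟨w, hw, rfl⟩, rfl⟩
    refine Submodule.iSup_induction (Fr p · Z) (motive := fun w => (π : A →ₐ[k] C).toLinearMap ((P π).subtype w) ∈
      Ideal.span (((Z.map (P π).subtype).map (π : A →ₐ[k] C).toLinearMap : Submodule k C) : Set C)) hw ?_ ?_ ?_
    · intro j x hx
      induction hx using Submodule.span_induction with
      | mem x hx =>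
        obtain ⟨z, hz, rfl⟩ := hx
        have h1 : (π : A →ₐ[k] C).toLinearMap ((P π).subtype (F p j z)) = π (z : A) ^ p ^ j := pi_F p j z
        rw [h1]
        have h2 : π (z : A) ∈ Ideal.span (((Z.map (P π).subtype).map (π : A →ₐ[k] C).toLinearMap :
            Submodule k C) : Set C) := Ideal.subset_span ⟨_, ⟨z, hz, rfl⟩, rfl⟩
        exact Ideal.pow_mem_of_mem _ h2 _ (pow_pos (Fact.out : p.Prime).pos _)
      | zero => rw [map_zero, map_zero]; exact zero_mem _
      | add x y _ _ hx hy => rw [map_add, map_add]; exact add_mem hx hy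
      | smul c x _ hx =>
        rw [map_smul, map_smul, Algebra.smul_def]
        exact Ideal.mul_mem_left _ _ hx
    · rw [map_zero, map_zero]; exact zero_mem _
    · intro x y hx hy
      rw [map_add, map_add]
      exact add_mem hx hy
  · apply Ideal.span_mono
    rintro _ ⟨_, ⟨z, hz, rfl⟩, rfl⟩
    refine ⟨_, ⟨z, Submodule.mem_iSup_of_mem 0 ?_, rfl⟩, rfl⟩
    rw [Fr_zero]
    exact hz

include p in
/-- **Good spaces, first case.** -/
theorem exists_goodA [Algebra.FiniteType k C] [Algebra.FormallySmooth k C] (h : Ext ψ π) (μ : B →ₗ[k] k) (hμ1 : μ 1 = 1)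
    (hμ : ∀ e, μ.rTensor B (Coalgebra.comul (R := k) e) = μ e ⊗ₜ[k] (1 : B))
    (hne : ∃ a ∈ P π, π a ∉ RingHom.ker (Bialgebra.counitAlgHom k C) ^ 2) :
    ∃ W : Submodule k A, Good ψ π (K503.Case2.counitB k A) W ∧
      Algebra.FormallySmooth k (C ⧸ Ideal.span ((W.map (π : A →ₐ[k] C).toLinearMap : Submodule k C) : Set C)) := by
  let _ := comodP h
  have hc : ∀ a : P π, incl ψ π (Comod.coact (k := k) (A := B) a) = D k A (a : A) := incl_coactP h
  have hss : IsSemisimpleComod k B (P π) := K191.Integral.semisimple_of_isInt (α := μ) hμ hμ1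
  obtain ⟨Z, hZ, hZc⟩ := hss (sq π) (isSubcomod_sq h hc)
  have hZ0 : ∀ z ∈ Z, z ∈ sq π → z = 0 := by
    intro z hz hz'
    have h1 : z ∈ sq π ⊓ Z := ⟨hz', hz⟩
    rwa [hZc.inf_eq_bot, Submodule.mem_bot] at h1
  have hZne : Z ≠ ⊥ := by
    intro h0
    rw [h0] at hZc
    have h1 := hZc.sup_eq_top
    rw [sup_bot_eq] at h1
    obtain ⟨a, ha, ha'⟩ := hne
    apply ha'
    have h2 : (⟨a, ha⟩ : P π) ∈ sq π := by rw [h1]; trivial
    exact h2
  have hgood : GoodP (B := B) p (K503.Case2.counitB k A) (⨆ j, Fr p j Z) :=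
    { sub := IsSubcomod.iSup fun i => isSubcomod_Fr p h hc i hZ
      ne := by
        intro h0
        apply hZne
        rw [eq_bot_iff, ← h0]
        refine le_trans ?_ (le_iSup _ 0)
        rw [Fr_zero]
      disj := fun w hw hw0 => disj p h Z hZ0 hw hw0
      frob := fun w hw => F_iSup_mem p hw
      kill := fun w hw => counit_of_mem w.2 }
  refine ⟨_, good_of_goodP p hc hgood, ?_⟩
  rw [span_eq]
  refine K520.PrimQuot.formallySmooth_quotient k C ((Z.map (P π).subtype).map (π : A →ₐ[k] C).toLinearMap) ?_ ?_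
  · rintro _ ⟨_, ⟨z, hz, rfl⟩, rfl⟩
    exact prim_of_mem z.2
  · rintro _ ⟨_, ⟨z, hz, rfl⟩, rfl⟩ h0
    rw [hZ0 z hz h0]
    exact map_zero (π : A →ₐ[k] C)

end K503.CaseA
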