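import Groth.Agent.SGA3.K503.CaseA
import Groth.Agent.SGA3.K983.FrobRoot

/-!
# Smooth kernels all of whose additive functions have zero differential

`exists_goodB`
-/

set_option autoImplicit false

universe u

open TensorProduct WithConv HopfRep

namespace K503.CaseB

open Groth.Agent.Books.NormalKer Groth.Agent.Books.CoidealFlat Groth.Agent.Books.ComodBasic
open Groth.Agent.Books.ComodHom K503.Frame K503.CrMod K503.CrLin K503.CrPow K503.Steps K503.Conj K503.BCExt
open K503.GoodSp K503.CaseA Groth.Agent.Sga3.H809.Transfer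

variable {k : Type u} [Field k] {A B C : Type u} [CommRing A] [HopfAlgebra k A]
  [CommRing B] [HopfAlgebra k B] [CommRing C] [HopfAlgebra k C]
  {ψ : B →ₐc[k] A} {π : A →ₐc[k] C} (p : ℕ) [Fact p.Prime] [CharP k p]

theorem pi_slice (φ : A →ₗ[k] k) (z : A ⊗[k] A) :
    π (slice A φ z) = slice C φ ((π : A →ₐ[k] C).toLinearMap.rTensor A z) := by
  induction z with
  | zero => simp only [map_zero]
  | add x y hx hy =>
    have h2 : π (slice A φ (x + y)) = π (slice A φ x) + π (slice A φ y) := by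
      rw [map_add]
      exact map_add (π : A →ₐ[k] C) _ _
    rw [h2, hx, hy, map_add, map_add]
  | tmul x y =>
    rw [slice_tmul, LinearMap.rTensor_tmul, slice_tmul]
    exact map_smul (π : A →ₐ[k] C) _ _

include p in
/-- triviality of the action of a connected base if all additive functions are powers of additive functions -/
theorem pi_dact [PerfectField k] [Algebra.FiniteType k B] [c : Comod k B (P π)] (h : Ext ψ π)
    (hc : ∀ a : P π, incl ψ π (Comod.coact (k := k) (A := B) a) = D k A (a : A))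
    (hconn : ∀ e : B, IsIdempotentElem e → e = 0 ∨ e = 1)
    (hroot : ∀ f ∈ prim k C, ∃ g ∈ prim k C, g ^ p = f) (φ : B →ₗ[k] k) (a : P π) :
    π (dact (P π) φ a : A) = φ 1 • π (a : A) := by
  have hroot' : ∀ (n : ℕ) (f : C), f ∈ prim k C → ∃ g ∈ prim k C, g ^ p ^ n = f := by
    intro n
    induction n with
    | zero => intro f hf; exact ⟨f, hf, by rw [pow_zero, pow_one]⟩
    | succ n ih =>
      intro f hf
      obtain ⟨g, hg, rfl⟩ := ih f hf
      obtain ⟨g', hg', rfl⟩ := hroot g hg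
      exact ⟨g', hg', by rw [← pow_mul, pow_succ, mul_comm]⟩
  rw [← sub_eq_zero]
  apply (Module.forall_dual_apply_eq_zero_iff k _).1
  intro ℓ
  rw [map_sub, map_smul]
  let θ : P π →ₗ[k] k := ℓ ∘ₗ (π : A →ₐ[k] C).toLinearMap ∘ₗ (P π).subtype
  have hθ0 : ∀ x ∈ I0 π, coeffMap B θ x = 0 := by
    intro x hx
    apply (Module.forall_dual_apply_eq_zero_iff k _).1
    intro φ'
    rw [apply_coeffMap]
    have h5 := (isSubcomod_iff_dact (I0 π)).1 (isSubcomod_I0 h hc) φ' _ hx
    change ℓ (π (dact (P π) φ' x : A)) = 0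
    rw [mem_I0.1 h5, map_zero]
  have key : coeffMap B θ a - algebraMap k B (θ a) = 0 := by
    refine K503.Case2.eq_zero_of_pow (k := k) hconn p (Fact.out : p.Prime) _ ?_ ?_
    · intro n
      obtain ⟨g, hg, hga⟩ := hroot' n (π (a : A)) (mem_prim.2 (prim_of_mem a.2))
      obtain ⟨a', ha', hag⟩ := exists_mem_P h (mem_prim.1 hg)
      obtain ⟨lam, -, h3, -⟩ := exists_coeffMap_eq_pow p h hc n θ
      have h4 : a - F p n ⟨a', ha'⟩ ∈ I0 π := by
        rw [mem_I0, Submodule.coe_sub]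
        have h5 : π ((a : A) - (F p n ⟨a', ha'⟩ : P π)) = π (a : A) - π ((F p n ⟨a', ha'⟩ : P π) : A) :=
          map_sub (π : A →ₐ[k] C) _ _
        rw [h5, pi_F, hag, hga, sub_self]
      have h5 := hθ0 _ h4
      rw [map_sub, sub_eq_zero, h3] at h5
      obtain ⟨d, hd⟩ := exists_root_k p n (θ a)
      refine ⟨coeffMap B lam ⟨a', ha'⟩ - algebraMap k B d, ?_⟩
      rw [sub_pow' k, ← h5, ← map_pow, hd]
    · rw [map_sub, counit_coeffMap, Bialgebra.counit_algebraMap, sub_self]
  have h1 : θ (dact (P π) φ a) = φ (coeffMap B θ a) := (apply_coeffMap (A := B) θ φ a).symm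
  have h2 : ℓ (π (dact (P π) φ a : A)) = θ (dact (P π) φ a) := rfl
  rw [h2, h1, sub_eq_zero.1 key, Algebra.algebraMap_eq_smul_one, map_smul, smul_eq_mul, smul_eq_mul, mul_comm,
    sub_eq_zero]
  rfl

theorem mem_map_of_range (K : Type u) [Field K] [Algebra k K] (S : Submodule k C) (I : Ideal C) (hSI : ∀ s ∈ S, s ∈ I)
    {z : K ⊗[k] C} (hz : z ∈ LinearMap.range (S.subtype.lTensor K)) :
    z ∈ I.map (Algebra.TensorProduct.includeRight : C →ₐ[k] K ⊗[k] C) := by
  obtain ⟨y, rfl⟩ := hz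
  induction y with
  | zero => rw [map_zero]; exact zero_mem _
  | add x y hx hy => rw [map_add]; exact add_mem hx hy
  | tmul x y =>
    have h1 : S.subtype.lTensor K (x ⊗ₜ[k] y) = (x ⊗ₜ[k] (1 : C)) * ((1 : K) ⊗ₜ[k] (y : C)) := by
      rw [LinearMap.lTensor_tmul, Algebra.TensorProduct.tmul_mul_tmul, one_mul, mul_one]
      rfl
    rw [h1]
    exact Ideal.mul_mem_left _ _ (Ideal.mem_map_of_mem
      (Algebra.TensorProduct.includeRight : C →ₐ[k] K ⊗[k] C) (hSI y y.2))

/-- primitive elements of a smooth Hopf algebra over an algebraically closed extension are powers, if the primitive elements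
over the ground field have zero differential -/
theorem exists_root_bc (K : Type u) [Field K] [Algebra k K] [CharP K p] [PerfectField K] [Algebra.FiniteType k C]
    [IsReduced (K ⊗[k] C)] (hsq : ∀ f ∈ prim k C, f ∈ RingHom.ker (Bialgebra.counitAlgHom k C) ^ 2)
    (f : K ⊗[k] C) (hf : f ∈ prim K (K ⊗[k] C)) : ∃ g ∈ prim K (K ⊗[k] C), g ^ p = f := by
  have h1 : f ∈ RingHom.ker (Bialgebra.counitAlgHom K (K ⊗[k] C)) ^ 2 := by
    rw [aug_bc, ← Ideal.map_pow]
    exact mem_map_of_range K _ _ hsq (prim_bc K hf)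
  obtain ⟨g, hg, hgf⟩ := K983.FrobRoot.exists_root K p (K ⊗[k] C) f (mem_prim.1 hf) h1
  exact ⟨g, mem_prim.2 hg, hgf⟩

include p in
/-- the action on additive functions is trivial -/
theorem rTensor_D [Algebra.FiniteType k B] [Algebra.FiniteType k C] [Algebra.FormallySmooth k C] (h : Ext ψ π)
    (hconn : ∀ e : B, IsIdempotentElem e → e = 0 ∨ e = 1)
    (hsq : ∀ f ∈ prim k C, f ∈ RingHom.ker (Bialgebra.counitAlgHom k C) ^ 2) {a : A} (ha : a ∈ P π) :
    (π : A →ₐ[k] C).toLinearMap.rTensor A (D k A a) = π a ⊗ₜ[k] (1 : A) := by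
  let K := AlgebraicClosure k
  have : CharP K p := charP_of_injective_algebraMap (algebraMap k K).injective p
  have hK := ext_bc K h
  let _ := comodP hK
  have hcK : ∀ a : P (bcHom K π), incl (bcHom K ψ) (bcHom K π) (Comod.coact (k := K) (A := K ⊗[k] B) a) =
    D K (K ⊗[k] A) (a : K ⊗[k] A) := incl_coactP hK
  have : Algebra.FinitePresentation k C := Algebra.FinitePresentation.of_finiteType.1 inferInstance
  have : Algebra.Smooth k C := { }
  have : IsReduced (K ⊗[k] C) := Groth.Agent.CalgB.SmoothReduced.isReduced_of_smooth K (K ⊗[k] C)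
  have key : ∀ a : P (bcHom K π), (bcHom K π : (K ⊗[k] A) →ₐ[K] (K ⊗[k] C)).toLinearMap.rTensor (K ⊗[k] A)
      (D K (K ⊗[k] A) (a : K ⊗[k] A)) = bcHom K π (a : K ⊗[k] A) ⊗ₜ[K] (1 : K ⊗[k] A) := by
    intro a
    apply ext_slice
    intro φ
    rw [← pi_slice, ← coe_dact hcK, pi_dact p hK hcK (K503.Case2.idem_bc hconn K) (exists_root_bc p K hsq), slice_tmul]
    congr 1
    change φ (bcHom K ψ 1) = φ 1
    congr 1
    exact map_one (bcHom K ψ : (K ⊗[k] B) →ₐ[K] (K ⊗[k] A))
  apply ii_injective K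
  have h1 := key ⟨_, one_mem_P K ha⟩
  change (bcHom K π : (K ⊗[k] A) →ₐ[K] (K ⊗[k] C)).toLinearMap.rTensor (K ⊗[k] A)
      (D K (K ⊗[k] A) ((1 : K) ⊗ₜ[k] a)) = bcHom K π ((1 : K) ⊗ₜ[k] a) ⊗ₜ[K] (1 : K ⊗[k] A) at h1
  rw [D_bc] at h1
  rw [ii_tmul]
  refine Eq.trans ?_ h1
  exact (map_ii K (π : A →ₐ[k] C).toLinearMap LinearMap.id (bcHom K π : (K ⊗[k] A) →ₐ[K] (K ⊗[k] C)).toLinearMap
    LinearMap.id (fun _ => rfl) (fun _ => rfl) (D k A a)).symm

/-- a Hopf algebra with an integral has no primitive elements -/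
theorem prim_eq_zero (μ : B →ₗ[k] k) (hμ1 : μ 1 = 1)
    (hμ : ∀ e, μ.rTensor B (Coalgebra.comul (R := k) e) = μ e ⊗ₜ[k] (1 : B)) {b : B}
    (hb : Coalgebra.comul (R := k) b = b ⊗ₜ[k] (1 : B) + (1 : B) ⊗ₜ[k] b) : b = 0 := by
  have h1 := hμ b
  rw [hb, map_add, LinearMap.rTensor_tmul, LinearMap.rTensor_tmul, add_eq_left, hμ1] at h1
  have h2 := congrArg (TensorProduct.lid k B) h1
  rwa [TensorProduct.lid_tmul, one_smul, map_zero] at h2

include p in
/-- smoothness of the quotient -/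
theorem smooth_quotient [Algebra.FiniteType k C] [Algebra.FormallySmooth k C]
    (hsq : ∀ f ∈ prim k C, f ∈ RingHom.ker (Bialgebra.counitAlgHom k C) ^ 2) :
    Algebra.FormallySmooth k (C ⧸ Ideal.span (prim k C : Set C)) := by
  let K := AlgebraicClosure k
  have : CharP K p := charP_of_injective_algebraMap (algebraMap k K).injective p
  have : Algebra.FinitePresentation k C := Algebra.FinitePresentation.of_finiteType.1 inferInstance
  have : Algebra.Smooth k C := { }
  have : IsReduced (K ⊗[k] C) := Groth.Agent.CalgB.SmoothReduced.isReduced_of_smooth K (K ⊗[k] C)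
  have hnoe : IsNoetherianRing C := Algebra.FiniteType.isNoetherianRing k C
  set I : Ideal C := Ideal.span (prim k C : Set C) with hI
  have hidem : IsIdempotentElem I := by
    apply le_antisymm Ideal.mul_le_right
    rw [hI, Ideal.span_le, ← hI]
    intro f hf
    obtain ⟨g, hg, hgf⟩ := exists_root_bc p K hsq ((1 : K) ⊗ₜ[k] f) (by
      rw [mem_prim, comul_one, mem_prim.1 hf, map_add, ii_tmul, ii_tmul]
      rfl)
    have h1 : g ∈ I.map (Algebra.TensorProduct.includeRight : C →ₐ[k] K ⊗[k] C) :=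
      mem_map_of_range K _ _ (fun s hs => Ideal.subset_span hs) (prim_bc K hg)
    have h2 : (1 : K) ⊗ₜ[k] f ∈ (I ^ 2).map (Algebra.TensorProduct.includeRight : C →ₐ[k] K ⊗[k] C) := by
      rw [← hgf, Ideal.map_pow]
      exact Ideal.pow_le_pow_right (Fact.out : p.Prime).two_le (Ideal.pow_mem_pow h1 p)
    have h3 : (1 : K) ⊗ₜ[k] (Ideal.Quotient.mkₐ k (I ^ 2) f) = 0 := by
      have h4 : (I ^ 2).map (Algebra.TensorProduct.includeRight : C →ₐ[k] K ⊗[k] C) ≤
          RingHom.ker (Algebra.TensorProduct.map (AlgHom.id k K) (Ideal.Quotient.mkₐ k (I ^ 2))) := by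
        rw [Ideal.map_le_iff_le_comap]
        intro x hx
        rw [Ideal.mem_comap, RingHom.mem_ker]
        change (1 : K) ⊗ₜ[k] (Ideal.Quotient.mk (I ^ 2) x) = 0
        rw [Ideal.Quotient.eq_zero_iff_mem.2 hx, TensorProduct.tmul_zero]
      exact h4 h2
    have h4 : Ideal.Quotient.mkₐ k (I ^ 2) f = 0 :=
      Module.FaithfullyFlat.tensorProduct_mk_injective (A := k) (B := K) (C ⧸ I ^ 2)
        (h3.trans (TensorProduct.tmul_zero _ _).symm)
    have h5 : f ∈ I ^ 2 := Ideal.Quotient.eq_zero_iff_mem.1 h4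
    rw [pow_two] at h5
    exact h5
  have h1 : Algebra.FormallyEtale C (C ⧸ I) := by
    rw [Algebra.FormallyEtale.iff_of_surjective (Ideal.Quotient.mk_surjective (I := I))]
    change IsIdempotentElem (RingHom.ker (Ideal.Quotient.mk I))
    rw [Ideal.mk_ker]
    exact hidem
  exact Algebra.FormallySmooth.comp k C (C ⧸ I)

include p in
/-- **Good spaces, second case.** -/
theorem exists_goodB [Algebra.FiniteType k B] [Algebra.FiniteType k C] [Algebra.FormallySmooth k C] (h : Ext ψ π)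
    (μ : B →ₗ[k] k) (hμ1 : μ 1 = 1)
    (hμ : ∀ e, μ.rTensor B (Coalgebra.comul (R := k) e) = μ e ⊗ₜ[k] (1 : B))
    (hconn : ∀ e : B, IsIdempotentElem e → e = 0 ∨ e = 1)
    (hsq : ∀ f ∈ prim k C, f ∈ RingHom.ker (Bialgebra.counitAlgHom k C) ^ 2) (hne : ∃ a ∈ P π, π a ≠ 0) :
    ∃ W : Submodule k A, Good ψ π (K503.Case2.counitB k A) W ∧
      Algebra.FormallySmooth k (C ⧸ Ideal.span ((W.map (π : A →ₐ[k] C).toLinearMap : Submodule k C) : Set C)) := by
  let _ := comodP h
  have hc : ∀ a : P π, incl ψ π (Comod.coact (k := k) (A := B) a) = D k A (a : A) := incl_coactP h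
  have hss : IsSemisimpleComod k B (P π) := K191.Integral.semisimple_of_isInt (α := μ) hμ hμ1
  obtain ⟨X, hX, hXc⟩ := hss (I0 π) (isSubcomod_I0 h hc)
  -- elements of `X` are primitive
  have hXp : ∀ x ∈ X, Coalgebra.comul (R := k) (x : A) = (x : A) ⊗ₜ[k] (1 : A) + (1 : A) ⊗ₜ[k] (x : A) := by
    intro x hx
    have h1 : Comod.coact (k := k) (A := B) x = x ⊗ₜ[k] (1 : B) := by
      apply ext_slice
      intro φ
      rw [slice_tmul, ← dact_apply]
      have h2 : dact (P π) φ x - φ 1 • x ∈ I0 π := by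
        rw [mem_I0, Submodule.coe_sub, Submodule.coe_smul]
        have h3 : π ((dact (P π) φ x : P π) - φ 1 • (x : A)) = π (dact (P π) φ x : A) - φ 1 • π (x : A) := by
          have h4 := map_sub (π : A →ₐ[k] C) (dact (P π) φ x : A) (φ 1 • (x : A))
          rw [map_smul] at h4
          exact h4
        rw [h3]
        obtain ⟨φ', rfl⟩ := exists_ext h φ
        rw [coe_dact hc, pi_slice, rTensor_D p h hconn hsq x.2, slice_tmul, sub_eq_zero]
        congr 1
        change φ' 1 = φ' (ψ 1)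
        congr 1
        exact (map_one (ψ : B →ₐ[k] A)).symm
      have h3 : dact (P π) φ x - φ 1 • x ∈ X :=
        sub_mem ((isSubcomod_iff_dact X).1 hX φ x hx) (Submodule.smul_mem _ _ hx)
      exact sub_eq_zero.1 (eq_zero_of_mem hXc h3 h2)
    have h2 := hc x
    rw [h1, incl_tmul, D_apply] at h2
    have h3 : ψ (1 : B) = 1 := map_one (ψ : B →ₐ[k] A)
    rw [h3] at h2
    rw [h2]
    abel
  have hFX : ∀ x ∈ X, F p 1 x ∈ X := by
    intro x hx
    have ha : F p 1 x ∈ I0 π ⊔ X := by rw [hXc.sup_eq_top]; trivial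
    obtain ⟨i, hi, x', hx', hxx⟩ := Submodule.mem_sup.1 ha
    obtain ⟨b, hb, -⟩ := exists_psi h i.2 hi
    have h1 : Coalgebra.comul (R := k) (F p 1 x : A) = (F p 1 x : A) ⊗ₜ[k] (1 : A) + (1 : A) ⊗ₜ[k] (F p 1 x : A) := by
      have h2 : Coalgebra.comul (R := k) ((x : A) ^ p ^ 1) = (Coalgebra.comul (R := k) (x : A)) ^ p ^ 1 :=
        map_pow (Bialgebra.comulAlgHom k A) _ _
      rw [coe_F, h2, hXp x hx, add_pow' k, Algebra.TensorProduct.tmul_pow, Algebra.TensorProduct.tmul_pow, one_pow]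
    have h2 : Coalgebra.comul (R := k) (ψ b) = ψ b ⊗ₜ[k] (1 : A) + (1 : A) ⊗ₜ[k] ψ b := by
      have h3 : ψ b = (F p 1 x : A) - (x' : A) := by
        rw [hb, ← hxx, Submodule.coe_add, add_sub_cancel_right]
      rw [h3, map_sub, h1, hXp x' hx', TensorProduct.sub_tmul, TensorProduct.tmul_sub]
      abel
    have h3 : Coalgebra.comul (R := k) b = b ⊗ₜ[k] (1 : B) + (1 : B) ⊗ₜ[k] b := by
      have hinj : Function.Injective (TensorProduct.map (ψ : B →ₐ[k] A).toLinearMap
          (ψ : B →ₐ[k] A).toLinearMap) := by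
        have h2 : TensorProduct.map (ψ : B →ₐ[k] A).toLinearMap (ψ : B →ₐ[k] A).toLinearMap =
            (ψ : B →ₐ[k] A).toLinearMap.rTensor A ∘ₗ (ψ : B →ₐ[k] A).toLinearMap.lTensor B := by
          rw [LinearMap.rTensor_comp_lTensor]
        rw [h2]
        exact (Module.Flat.rTensor_preserves_injective_linearMap _ h.inj).comp
          (Module.Flat.lTensor_preserves_injective_linearMap _ h.inj)
      apply hinj
      have h4 : TensorProduct.map (ψ : B →ₐ[k] A).toLinearMap (ψ : B →ₐ[k] A).toLinearMap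
        (Coalgebra.comul (R := k) b) = Coalgebra.comul (R := k) (ψ b) := CoalgHomClass.map_comp_comul_apply ψ b
      rw [h4, h2, map_add, TensorProduct.map_tmul, TensorProduct.map_tmul]
      have h5 : (ψ : B →ₐ[k] A).toLinearMap (1 : B) = 1 := map_one (ψ : B →ₐ[k] A)
      rw [h5]
      rfl
    have h4 := prim_eq_zero μ hμ1 hμ h3
    have h5 : i = 0 := by
      apply Subtype.ext
      rw [← hb, h4]
      exact map_zero (ψ : B →ₐ[k] A)
    rw [← hxx, h5, zero_add]
    exact hx'
  have hgood : GoodP (B := B) p (K503.Case2.counitB k A) X :=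
    { sub := hX
      ne := by
        intro h0
        rw [h0] at hXc
        have h1 := hXc.sup_eq_top
        rw [sup_bot_eq] at h1
        obtain ⟨a, ha, ha'⟩ := hne
        apply ha'
        have h2 : (⟨a, ha⟩ : P π) ∈ I0 π := by rw [h1]; trivial
        exact h2
      disj := fun w hw hw0 => eq_zero_of_mem hXc hw hw0
      frob := hFX
      kill := fun w hw => counit_of_mem w.2 }
  refine ⟨_, good_of_goodP p hc hgood, ?_⟩
  have h1 : Ideal.span (((X.map (P π).subtype).map (π : A →ₐ[k] C).toLinearMap : Submodule k C) : Set C) =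
      Ideal.span (prim k C : Set C) := by
    congr 1
    ext f
    constructor
    · rintro ⟨_, ⟨x, hx, rfl⟩, rfl⟩
      exact mem_prim.2 (prim_of_mem x.2)
    · intro hf
      obtain ⟨a, ha, rfl⟩ := exists_mem_P h (mem_prim.1 hf)
      have h2 : (⟨a, ha⟩ : P π) ∈ I0 π ⊔ X := by rw [hXc.sup_eq_top]; trivial
      obtain ⟨i, hi, x, hx, hxx⟩ := Submodule.mem_sup.1 h2
      refine ⟨_, ⟨x, hx, rfl⟩, ?_⟩
      have h3 : (a : A) = (i : A) + (x : A) := by
        rw [← Submodule.coe_add, hxx]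
      have h4 : π ((i : A) + (x : A)) = π (i : A) + π (x : A) := map_add (π : A →ₐ[k] C) _ _
      rw [h3, h4, mem_I0.1 hi, zero_add]
      rfl
  rw [h1]
  exact smooth_quotient p hsq

end K503.CaseB
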