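import Groth.Agent.SGA3.K503.Steps

/-!
# Conjugation on the kernel of an extension

`exists_conj` : the conjugation map `n : C → C ⊗ A`; on `P π` it is given by the coaction. `isSubcomod_sq` : the functions in
`P π` whose restriction to the kernel is in the square of the augmentation ideal form a subcomodule.
-/

set_option autoImplicit false

universe u v

open TensorProduct WithConv HopfRep

namespace K503.Conj

open Groth.Agent.Books.NormalKer Groth.Agent.Books.CoidealFlat Groth.Agent.Books.ComodBasic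
open Groth.Agent.Books.ComodHom K503.Frame K503.CrMod K503.CrLin

attribute [local instance] ptInv ptGroup

variable {k : Type u} [Field k] {A B C : Type v} [CommRing A] [HopfAlgebra k A]
  [CommRing B] [HopfAlgebra k B] [CommRing C] [HopfAlgebra k C]
  {ψ : B →ₐc[k] A} {π : A →ₐc[k] C}

/-- the point `u` with values in `C ⊗ A` -/
noncomputable def j1 (π : A →ₐc[k] C) : WithConv (A →ₐ[k] C ⊗[k] A) :=
  toConv ((Algebra.TensorProduct.includeLeft : C →ₐ[k] C ⊗[k] A).comp (π : A →ₐ[k] C))

/-- the point `g` with values in `C ⊗ A` -/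
noncomputable def j2 (k : Type u) [Field k] (A C : Type v) [CommRing A] [HopfAlgebra k A] [CommRing C] [HopfAlgebra k C] :
    WithConv (A →ₐ[k] C ⊗[k] A) :=
  toConv (Algebra.TensorProduct.includeRight : A →ₐ[k] C ⊗[k] A)

theorem res_j1 (h : Ext ψ π) : res ψ (j1 π) = 1 := by
  apply WithConv.ext
  apply AlgHom.ext
  intro b
  change (π (ψ b)) ⊗ₜ[k] (1 : A) = algebraMap k (C ⊗[k] A) (Coalgebra.counit (R := k) b)
  rw [h.pi_psi]
  rfl

theorem exists_n (h : Ext ψ π) : ∃ n : WithConv (C →ₐ[k] C ⊗[k] A), j2 k A C * res π n = j1 π * j2 k A C := by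
  obtain ⟨n, hn⟩ := h.ker_le_of ((j2 k A C)⁻¹ * (j1 π * j2 k A C)) (by
    intro b
    have h0 : (j2 k A C)⁻¹ * j2 k A C = 1 := inv_mul_cancel _
    have h2 : res ψ ((j2 k A C)⁻¹ * (j1 π * j2 k A C)) = 1 := by
      rw [map_mul, map_mul, res_j1 h]
      have h3 : (1 : WithConv (B →ₐ[k] C ⊗[k] A)) * res ψ (j2 k A C) = res ψ (j2 k A C) := one_mul _
      refine (congrArg (fun t => res ψ (j2 k A C)⁻¹ * t) h3).trans ?_
      rw [← map_mul]
      exact (congrArg (res ψ) h0).trans (map_one _)
    exact congrArg (fun x : WithConv (B →ₐ[k] C ⊗[k] A) => x.ofConv b) h2)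
  refine ⟨n, ?_⟩
  rw [hn]
  exact mul_inv_cancel_left (j2 k A C) (j1 π * j2 k A C)

/-- conjugation on functions additive along the kernel -/
theorem n_apply {n : WithConv (C →ₐ[k] C ⊗[k] A)} (hn : j2 k A C * res π n = j1 π * j2 k A C) {a : A} (ha : a ∈ P π) :
    n.ofConv (π a) = (π : A →ₐ[k] C).toLinearMap.rTensor A (D k A a) := by
  have h1 := congrArg (fun x : WithConv (A →ₐ[k] C ⊗[k] A) => x.ofConv a) hn
  have h2 : (j2 k A C * res π n).ofConv a = (1 : C) ⊗ₜ[k] a + n.ofConv (π a) := by
    refine (mul_res_apply π (j2 k A C) n a).trans ?_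
    rw [mem_P.1 ha, map_add, pair_tmul, pair_tmul, map_one, mul_one]
    congr 1
    change (1 : C ⊗[k] A) * _ = _
    rw [one_mul]
  have h3 : (j1 π * j2 k A C).ofConv a = (π : A →ₐ[k] C).toLinearMap.rTensor A (Coalgebra.comul (R := k) a) := by
    refine (AlgHom.convMul_apply _ _ a).trans ?_
    generalize Coalgebra.comul (R := k) a = z
    induction z with
    | zero => rw [map_zero, map_zero]
    | add x y hx hy => rw [map_add, map_add, hx, hy]
    | tmul x y =>
      rw [Algebra.TensorProduct.lift_tmul, LinearMap.rTensor_tmul]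
      change (π x ⊗ₜ[k] (1 : A)) * ((1 : C) ⊗ₜ[k] y) = _
      rw [Algebra.TensorProduct.tmul_mul_tmul, mul_one, one_mul]
      rfl
  have h4 : (1 : C) ⊗ₜ[k] a + n.ofConv (π a) = (π : A →ₐ[k] C).toLinearMap.rTensor A (Coalgebra.comul (R := k) a) :=
    h2.symm.trans (h1.trans h3)
  rw [D_apply, map_sub, ← h4, LinearMap.rTensor_tmul]
  have h5 : (π : A →ₐ[k] C).toLinearMap (1 : A) = 1 := map_one (π : A →ₐ[k] C)
  rw [h5, add_sub_cancel_left]

/-- evaluating the first variable of `C ⊗ A` at the unit -/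
noncomputable def ev (k : Type u) [Field k] (A C : Type v) [CommRing A] [HopfAlgebra k A] [CommRing C] [HopfAlgebra k C] :
    C ⊗[k] A →ₐ[k] A :=
  Algebra.TensorProduct.lift ((Algebra.ofId k A).comp (Bialgebra.counitAlgHom k C)) (AlgHom.id k A)
    (fun _ _ => Commute.all _ _)

theorem ev_tmul (c : C) (a : A) : ev k A C (c ⊗ₜ[k] a) = Coalgebra.counit (R := k) c • a := by
  rw [ev, Algebra.TensorProduct.lift_tmul, Algebra.smul_def]
  rfl

theorem ev_n (h : Ext ψ π) {n : WithConv (C →ₐ[k] C ⊗[k] A)} (hn : j2 k A C * res π n = j1 π * j2 k A C) (c : C) :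
    ev k A C (n.ofConv c) = algebraMap k A (Coalgebra.counit (R := k) c) := by
  have h1 : push (ev k A C) (j1 π) = 1 := by
    apply WithConv.ext
    apply AlgHom.ext
    intro a
    change ev k A C (π a ⊗ₜ[k] (1 : A)) = algebraMap k A (Coalgebra.counit (R := k) a)
    rw [ev_tmul, CoalgHomClass.counit_comp_apply, Algebra.algebraMap_eq_smul_one]
  have h2 := congrArg (push (ev k A C)) hn
  rw [map_mul, map_mul, h1] at h2
  have h3 : (1 : WithConv (A →ₐ[k] A)) * push (ev k A C) (j2 k A C) = push (ev k A C) (j2 k A C) * 1 :=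
    (one_mul _).trans (mul_one _).symm
  have h4 := conv_left_cancel _ _ _ (h2.trans h3)
  obtain ⟨a, rfl⟩ := h.surj c
  have h5 := congrArg (fun x : WithConv (A →ₐ[k] A) => x.ofConv a) h4
  refine Eq.trans h5 ?_
  rw [CoalgHomClass.counit_comp_apply]
  rfl

theorem mem_map_of_ev {z : C ⊗[k] A} (hz : ev k A C z = 0) :
    z ∈ (RingHom.ker (Bialgebra.counitAlgHom k C)).map (Algebra.TensorProduct.includeLeft : C →ₐ[k] C ⊗[k] A) := by
  have hs : Function.Surjective (Bialgebra.counitAlgHom k C) := by
    intro x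
    exact ⟨algebraMap k C x, Bialgebra.counit_algebraMap x⟩
  have h1 := Algebra.TensorProduct.rTensor_ker (R := k) (S := k) (C := A) (Bialgebra.counitAlgHom k C) hs
  rw [← h1, RingHom.mem_ker]
  apply (Algebra.TensorProduct.lid k A).injective
  rw [map_zero, ← hz]
  clear hz
  induction z with
  | zero => simp
  | add x y hx hy => rw [map_add, map_add, map_add, hx, hy]
  | tmul x y =>
    rw [Algebra.TensorProduct.map_tmul, Algebra.TensorProduct.lid_tmul, ev_tmul]
    rfl

theorem slice_mem_of_mem (I : Ideal C) (φ : A →ₗ[k] k) {z : C ⊗[k] A}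
    (hz : z ∈ I.map (Algebra.TensorProduct.includeLeft : C →ₐ[k] C ⊗[k] A)) : slice C φ z ∈ I := by
  induction hz using Submodule.span_induction with
  | mem x hx =>
    obtain ⟨c, hc, rfl⟩ := hx
    change slice C φ (c ⊗ₜ[k] (1 : A)) ∈ I
    rw [slice_tmul, Algebra.smul_def]
    exact I.mul_mem_left _ hc
  | zero => rw [map_zero]; exact zero_mem _
  | add x y _ _ hx hy => rw [map_add]; exact add_mem hx hy
  | smul r x hx' hx =>
    clear hx
    have key : ∀ r : C ⊗[k] A, slice C φ (r • x) ∈ I := by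
      intro r
      -- write `x` as a combination
      revert r
      induction hx' using Submodule.span_induction with
      | mem x hx =>
        obtain ⟨c, hc, rfl⟩ := hx
        intro r
        induction r with
        | zero => rw [zero_smul, map_zero]; exact zero_mem _
        | add x y hx hy => rw [add_smul, map_add]; exact add_mem hx hy
        | tmul y a =>
          change slice C φ ((y ⊗ₜ[k] a) * (c ⊗ₜ[k] (1 : A))) ∈ I
          rw [Algebra.TensorProduct.tmul_mul_tmul, slice_tmul, Algebra.smul_def]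
          exact I.mul_mem_left _ (I.mul_mem_left _ hc)
      | zero => intro r; rw [smul_zero, map_zero]; exact zero_mem _
      | add x y _ _ hx hy => intro r; rw [smul_add, map_add]; exact add_mem (hx r) (hy r)
      | smul s x _ hx => intro r; rw [smul_smul]; exact hx _
    exact key r

/-- functions in `P π` whose restriction to the kernel is in the square of the augmentation ideal -/
noncomputable def sq (π : A →ₐc[k] C) : Submodule k (P π) :=
  ((RingHom.ker (Bialgebra.counitAlgHom k C) ^ 2).restrictScalars k).comap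
    ((π : A →ₐ[k] C).toLinearMap ∘ₗ (P π).subtype)

theorem mem_sq {a : P π} : a ∈ sq π ↔ π (a : A) ∈ RingHom.ker (Bialgebra.counitAlgHom k C) ^ 2 := Iff.rfl

theorem isSubcomod_sq [c : Comod k B (P π)] (h : Ext ψ π)
    (hc : ∀ a : P π, incl ψ π (Comod.coact (k := k) (A := B) a) = D k A (a : A)) :
    IsSubcomod (k := k) (A := B) (sq π) := by
  obtain ⟨n, hn⟩ := exists_n h
  rw [isSubcomod_iff_dact]
  intro φ a ha
  obtain ⟨φ', rfl⟩ := exists_ext h φ
  rw [mem_sq] at ha ⊢
  rw [coe_dact hc]
  have h1 : ∀ z : A ⊗[k] A, π (slice A φ' z) = slice C φ' ((π : A →ₐ[k] C).toLinearMap.rTensor A z) := by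
    intro z
    induction z with
    | zero =>
      simp only [map_zero]
    | add x y hx hy =>
      have h2 : π (slice A φ' (x + y)) = π (slice A φ' x) + π (slice A φ' y) := by
        rw [map_add]
        exact map_add (π : A →ₐ[k] C) _ _
      rw [h2, hx, hy, map_add, map_add]
    | tmul x y =>
      rw [slice_tmul, LinearMap.rTensor_tmul, slice_tmul]
      exact map_smul (π : A →ₐ[k] C) _ _
  rw [h1, ← n_apply hn a.2]
  apply slice_mem_of_mem
  have h2 : Ideal.map n.ofConv (RingHom.ker (Bialgebra.counitAlgHom k C)) ≤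
      (RingHom.ker (Bialgebra.counitAlgHom k C)).map (Algebra.TensorProduct.includeLeft : C →ₐ[k] C ⊗[k] A) := by
    rw [Ideal.map_le_iff_le_comap]
    intro x hx
    rw [Ideal.mem_comap]
    apply mem_map_of_ev
    rw [ev_n h hn]
    have h3 : Coalgebra.counit (R := k) x = 0 := hx
    rw [h3, map_zero]
  rw [Ideal.map_pow]
  refine Ideal.pow_right_mono h2 2 ?_
  rw [← Ideal.map_pow]
  exact Ideal.mem_map_of_mem _ ha

end K503.Conj
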