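import Groth.Agent.SGA3.K503.CrMod
import Groth.Agent.HopfRep.K191.Integral

/-!
# Crossed maps and twisting of complements

For the comodule `P π` of functions which are additive along the kernel of an extension (see `CrMod`):

* `dl lam : P → B`, `a ↦ (lam ⊗ id)(coact a) - lam(a)`;
* `crossed_eq` : crossed maps are of this form if there is an invariant integral;
* `twist lam : P → P`, `a ↦ a + ψ(dl lam a)`, a comodule map;
* `exists_compl` : a complement of `ψ(B⁺)` killed by a given bialgebra map;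
* `exists_theta` : the projection given by a complement.
-/

set_option autoImplicit false

universe u v

open TensorProduct WithConv HopfRep

namespace K503.CrLin

open Groth.Agent.Books.NormalKer Groth.Agent.Books.CoidealFlat Groth.Agent.Books.ComodBasic
open Groth.Agent.Books.ComodHom K503.Frame K503.CrMod

variable {k : Type u} [Field k] {A B C E : Type v} [CommRing A] [HopfAlgebra k A] [CommRing B] [HopfAlgebra k B]
  [CommRing C] [HopfAlgebra k C] [CommRing E] [HopfAlgebra k E]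
  {ψ : B →ₐc[k] A} {π : A →ₐc[k] C}

theorem slice_incl (φ : A →ₗ[k] k) (z : P π ⊗[k] B) : slice A φ (incl ψ π z) =
    (slice (P π) (φ ∘ₗ (ψ : B →ₐ[k] A).toLinearMap) z : P π) := by
  induction z with
  | zero => simp
  | add x y hx hy => simp only [map_add, hx, hy, Submodule.coe_add]
  | tmul x y =>
    rw [incl_tmul, slice_tmul, slice_tmul]
    rfl

/-- every functional on `B` is the restriction of a functional on `A` -/
theorem exists_ext (h : Ext ψ π) (φ : B →ₗ[k] k) :
    ∃ φ' : A →ₗ[k] k, φ' ∘ₗ (ψ : B →ₐ[k] A).toLinearMap = φ := by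
  obtain ⟨g, hg⟩ := (ψ : B →ₐ[k] A).toLinearMap.exists_leftInverse_of_injective (LinearMap.ker_eq_bot.2 h.inj)
  refine ⟨φ ∘ₗ g, ?_⟩
  rw [LinearMap.comp_assoc, hg, LinearMap.comp_id]

/-- the augmentation ideal of the base as a subspace of `P` -/
noncomputable def I0 (π : A →ₐc[k] C) : Submodule k (P π) :=
  LinearMap.ker ((π : A →ₐ[k] C).toLinearMap ∘ₗ (P π).subtype)

theorem mem_I0 {a : P π} : a ∈ I0 π ↔ π (a : A) = 0 := Iff.rfl

section comod

variable [c : Comod k B (P π)]

theorem coe_dact (hc : ∀ a : P π, incl ψ π (Comod.coact (k := k) (A := B) a) = D k A (a : A))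
    (φ : A →ₗ[k] k) (a : P π) :
    ((dact (P π) (φ ∘ₗ (ψ : B →ₐ[k] A).toLinearMap) a : P π) : A) = slice A φ (D k A (a : A)) := by
  rw [← hc, slice_incl]
  rfl

theorem slice_D_psi (φ : A →ₗ[k] k) (b : B) : slice A φ (D k A (ψ b)) =
    ψ (dact B (φ ∘ₗ (ψ : B →ₐ[k] A).toLinearMap) b - φ (ψ b) • (1 : B)) := by
  have h0 : slice A φ (D k A (ψ b)) = dact A φ (ψ b) - φ (ψ b) • (1 : A) := by
    rw [D_apply, map_sub, slice_tmul]
    rfl
  rw [h0, dact_psi]
  have h1 : ψ (dact B (φ ∘ₗ (ψ : B →ₐ[k] A).toLinearMap) b - φ (ψ b) • (1 : B)) =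
      ψ (dact B (φ ∘ₗ (ψ : B →ₐ[k] A).toLinearMap) b) - φ (ψ b) • ψ (1 : B) := by
    have h2 := map_sub (ψ : B →ₐ[k] A) (dact B (φ ∘ₗ (ψ : B →ₐ[k] A).toLinearMap) b) (φ (ψ b) • (1 : B))
    rw [map_smul] at h2
    exact h2
  rw [h1]
  congr 2
  exact (map_one (ψ : B →ₐ[k] A)).symm

/-- the coboundary of a functional -/
noncomputable def dl (lam : P π →ₗ[k] k) : P π →ₗ[k] B := coeffMap B lam - (Algebra.linearMap k B) ∘ₗ lam

theorem dl_apply (lam : P π →ₗ[k] k) (a : P π) : dl (B := B) lam a =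
    coeffMap B lam a - algebraMap k B (lam a) := rfl

theorem counit_dl (lam : P π →ₗ[k] k) (a : P π) : Coalgebra.counit (R := k) (dl (B := B) lam a) = 0 := by
  rw [dl_apply, map_sub, counit_coeffMap, Bialgebra.counit_algebraMap, sub_self]

theorem dl_dact (lam : P π →ₗ[k] k) (φ : B →ₗ[k] k) (a : P π) : dl (B := B) lam (dact (P π) φ a) =
    dact B φ (dl (B := B) lam a) - φ (dl (B := B) lam a) • (1 : B) := by
  rw [dl_apply, dl_apply, map_sub, map_sub, (isComodHom_coeffMap (A := B) lam).map_dact, apply_coeffMap,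
    Algebra.algebraMap_eq_smul_one, Algebra.algebraMap_eq_smul_one, map_smul, map_smul, sub_smul, smul_eq_mul]
  have h1 : dact B φ (1 : B) = φ 1 • (1 : B) := by
    change slice B φ (Coalgebra.comul (R := k) (1 : B)) = _
    rw [Bialgebra.comul_one, Algebra.TensorProduct.one_def, slice_tmul]
  rw [h1, smul_smul]
  abel

/-- crossed maps with values in a quotient are coboundaries -/
theorem crossed_eq (q : B →ₐc[k] E) (μ : E →ₗ[k] k) (hμ1 : μ 1 = 1)
    (hμ : ∀ e, μ.rTensor E (Coalgebra.comul (R := k) e) = μ e ⊗ₜ[k] (1 : E)) (f : P π →ₗ[k] E)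
    (hf : ∀ a : P π, Coalgebra.comul (R := k) (f a) = (1 : E) ⊗ₜ[k] f a +
      TensorProduct.map f (q : B →ₐ[k] E).toLinearMap (Comod.coact (k := k) (A := B) a)) (a : P π) :
    f a + q (dl (μ ∘ₗ f) a) = 0 := by
  have h1 := hμ (f a)
  rw [hf, map_add, LinearMap.rTensor_tmul, hμ1] at h1
  have h2 : ∀ z : P π ⊗[k] B, TensorProduct.lid k E (μ.rTensor E (TensorProduct.map f
      (q : B →ₐ[k] E).toLinearMap z)) = (q : B →ₐ[k] E) (TensorProduct.lid k B ((μ ∘ₗ f).rTensor B z)) := by
    intro z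
    induction z with
    | zero => simp
    | add x y hx hy => simp only [map_add, hx, hy]
    | tmul x y => simp
  have h3 := congrArg (TensorProduct.lid k E) h1
  rw [map_add, TensorProduct.lid_tmul, TensorProduct.lid_tmul, h2, one_smul, ← coeffMap_apply] at h3
  have h4 : q (dl (μ ∘ₗ f) a) = (q : B →ₐ[k] E) (coeffMap B (μ ∘ₗ f) a) - μ (f a) • (1 : E) := by
    rw [dl_apply]
    have h5 := map_sub (q : B →ₐ[k] E) (coeffMap B (μ ∘ₗ f) a) (algebraMap k B ((μ ∘ₗ f) a))
    rw [AlgHom.commutes, Algebra.algebraMap_eq_smul_one (A := E)] at h5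
    exact h5
  rw [h4, ← h3]
  abel

/-- restriction of a bialgebra map to `P` is crossed -/
theorem crossed_bialg (hc : ∀ a : P π, incl ψ π (Comod.coact (k := k) (A := B) a) = D k A (a : A))
    (r : A →ₐc[k] E) (q : B →ₐc[k] E) (hr : ∀ b, r (ψ b) = q b) (a : P π) :
    Coalgebra.comul (R := k) (((r : A →ₐ[k] E).toLinearMap ∘ₗ (P π).subtype) a) =
      (1 : E) ⊗ₜ[k] ((r : A →ₐ[k] E).toLinearMap ∘ₗ (P π).subtype) a +
      TensorProduct.map ((r : A →ₐ[k] E).toLinearMap ∘ₗ (P π).subtype) (q : B →ₐ[k] E).toLinearMap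
        (Comod.coact (k := k) (A := B) a) := by
  have h1 : Coalgebra.comul (R := k) (a : A) = (1 : A) ⊗ₜ[k] (a : A) +
      incl ψ π (Comod.coact (k := k) (A := B) a) := by
    rw [hc, D_apply]; abel
  have h2 : Coalgebra.comul (R := k) (r (a : A)) = TensorProduct.map (r : A →ₐ[k] E).toLinearMap
      (r : A →ₐ[k] E).toLinearMap (Coalgebra.comul (R := k) (a : A)) :=
    (CoalgHomClass.map_comp_comul_apply r (a : A)).symm
  have h3 : ∀ z : P π ⊗[k] B, TensorProduct.map (r : A →ₐ[k] E).toLinearMap (r : A →ₐ[k] E).toLinearMap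
      (incl ψ π z) = TensorProduct.map ((r : A →ₐ[k] E).toLinearMap ∘ₗ (P π).subtype)
        (q : B →ₐ[k] E).toLinearMap z := by
    intro z
    induction z with
    | zero => simp
    | add x y hx hy => simp only [map_add, hx, hy]
    | tmul x y =>
      rw [incl_tmul, TensorProduct.map_tmul, TensorProduct.map_tmul]
      congr 1
      exact hr y
  refine h2.trans ?_
  rw [h1, map_add, TensorProduct.map_tmul, h3]
  congr 2
  exact map_one (r : A →ₐ[k] E)

/-- twisting by a functional -/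
noncomputable def twist (h : Ext ψ π) (lam : P π →ₗ[k] k) : P π →ₗ[k] P π :=
  LinearMap.id + ((ψ : B →ₐ[k] A).toLinearMap ∘ₗ dl lam).codRestrict (P π)
    (fun a => psi_mem h (counit_dl lam a))

theorem coe_twist (h : Ext ψ π) (lam : P π →ₗ[k] k) (a : P π) :
    ((twist h lam a : P π) : A) = (a : A) + ψ (dl lam a) := rfl

theorem twist_sub_mem (h : Ext ψ π) (lam : P π →ₗ[k] k) (a : P π) : twist h lam a - a ∈ I0 π := by
  rw [mem_I0, Submodule.coe_sub, coe_twist, add_sub_cancel_left, h.pi_psi, counit_dl, map_zero]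

theorem pi_twist (h : Ext ψ π) (lam : P π →ₗ[k] k) (a : P π) : π (twist h lam a : A) = π (a : A) := by
  rw [coe_twist]
  have h1 : π ((a : A) + ψ (dl lam a)) = π (a : A) + π (ψ (dl lam a)) :=
    map_add (π : A →ₐ[k] C) _ _
  rw [h1, h.pi_psi, counit_dl, map_zero, add_zero]

theorem isComodHom_twist (h : Ext ψ π)
    (hc : ∀ a : P π, incl ψ π (Comod.coact (k := k) (A := B) a) = D k A (a : A)) (lam : P π →ₗ[k] k) :
    IsComodHom k B (twist h lam) := by
  rw [isComodHom_iff_dact]
  intro φ a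
  obtain ⟨φ', rfl⟩ := exists_ext h φ
  apply Subtype.ext
  rw [coe_dact hc, coe_twist, coe_twist, coe_dact hc, map_add, map_add, slice_D_psi, dl_dact]
  rfl

theorem isSubcomod_I0 (h : Ext ψ π)
    (hc : ∀ a : P π, incl ψ π (Comod.coact (k := k) (A := B) a) = D k A (a : A)) :
    IsSubcomod (k := k) (A := B) (I0 π) := by
  rw [isSubcomod_iff_dact]
  intro φ a ha
  obtain ⟨φ', rfl⟩ := exists_ext h φ
  obtain ⟨b, hb, hb0⟩ := exists_psi h a.2 ha
  rw [mem_I0, coe_dact hc, ← hb, slice_D_psi, h.pi_psi]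
  have h1 : Coalgebra.counit (R := k) (dact B (φ' ∘ₗ (ψ : B →ₐ[k] A).toLinearMap) b - φ' (ψ b) • (1 : B)) = 0 := by
    rw [map_sub, map_smul, Bialgebra.counit_one, smul_eq_mul, mul_one, sub_eq_zero]
    have h3 : ∀ z : B ⊗[k] B, Coalgebra.counit (R := k) (slice B (φ' ∘ₗ (ψ : B →ₐ[k] A).toLinearMap) z) =
        φ' (ψ (TensorProduct.lid k B ((Coalgebra.counit (R := k) (A := B)).rTensor B z))) := by
      intro z
      induction z with
      | zero =>
        rw [map_zero, map_zero, map_zero, map_zero]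
        exact ((congrArg φ' (map_zero (ψ : B →ₐ[k] A))).trans (map_zero φ')).symm
      | add x y hx hy =>
        rw [map_add, map_add, hx, hy, map_add, map_add]
        exact ((congrArg φ' (map_add (ψ : B →ₐ[k] A) _ _)).trans (map_add φ' _ _)).symm
      | tmul x y =>
        rw [slice_tmul, map_smul, LinearMap.rTensor_tmul, TensorProduct.lid_tmul, smul_eq_mul]
        have h4 : φ' (ψ (Coalgebra.counit (R := k) x • y)) = Coalgebra.counit (R := k) x * φ' (ψ y) :=
          (congrArg φ' (map_smul (ψ : B →ₐ[k] A) _ _)).trans (map_smul φ' _ _)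
        rw [h4]
        exact mul_comm _ _
    change Coalgebra.counit (R := k) (slice B (φ' ∘ₗ (ψ : B →ₐ[k] A).toLinearMap)
      (Coalgebra.comul (R := k) b)) = _
    rw [h3, Coalgebra.rTensor_counit_comul, TensorProduct.lid_tmul, one_smul]
  rw [h1, map_zero]

/-- **Complements.** There is a complement of the augmentation ideal of the base which is killed by a given bialgebra map
`r` extending a map `q` of the base. -/
theorem exists_compl (h : Ext ψ π)
    (hc : ∀ a : P π, incl ψ π (Comod.coact (k := k) (A := B) a) = D k A (a : A))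
    (hss : IsSemisimpleComod k B (P π)) (r : A →ₐc[k] E) (q : B →ₐc[k] E) (hr : ∀ b, r (ψ b) = q b)
    (μ : E →ₗ[k] k) (hμ1 : μ 1 = 1)
    (hμ : ∀ e, μ.rTensor E (Coalgebra.comul (R := k) e) = μ e ⊗ₜ[k] (1 : E)) :
    ∃ X : Submodule k (P π), IsSubcomod (k := k) (A := B) X ∧ IsCompl (I0 π) X ∧ ∀ x ∈ X, r (x : A) = 0 := by
  obtain ⟨X₀, hX₀, hX₀c⟩ := hss (I0 π) (isSubcomod_I0 h hc)
  let f : P π →ₗ[k] E := (r : A →ₐ[k] E).toLinearMap ∘ₗ (P π).subtype
  have hcr := crossed_eq q μ hμ1 hμ f (crossed_bialg hc r q hr)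
  refine ⟨X₀.map (twist h (μ ∘ₗ f)), (isComodHom_twist h hc _).map hX₀, ?_, ?_⟩
  · rw [isCompl_iff]
    constructor
    · rw [Submodule.disjoint_def]
      rintro _ hx ⟨x, hx0, rfl⟩
      rw [mem_I0, pi_twist] at hx
      have h1 : x ∈ I0 π ⊓ X₀ := ⟨hx, hx0⟩
      rw [hX₀c.inf_eq_bot, Submodule.mem_bot] at h1
      rw [h1, map_zero]
    · rw [codisjoint_iff, eq_top_iff]
      intro a _
      have ha : a ∈ I0 π ⊔ X₀ := by rw [hX₀c.sup_eq_top]; trivial
      obtain ⟨i, hi, x, hx, rfl⟩ := Submodule.mem_sup.1 ha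
      have h1 : i + x = (i - (twist h (μ ∘ₗ f) x - x)) + twist h (μ ∘ₗ f) x := by abel
      rw [h1]
      exact Submodule.add_mem_sup (sub_mem hi (twist_sub_mem h _ x)) (Submodule.mem_map_of_mem hx)
  · rintro _ ⟨x, -, rfl⟩
    rw [coe_twist]
    have h1 : r ((x : A) + ψ (dl (μ ∘ₗ f) x)) = r (x : A) + r (ψ (dl (μ ∘ₗ f) x)) :=
      map_add (r : A →ₐ[k] E) _ _
    rw [h1, hr]
    exact hcr x

/-- the functional defining the projection given by a complement -/
theorem exists_theta (h : Ext ψ π)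
    (hc : ∀ a : P π, incl ψ π (Comod.coact (k := k) (A := B) a) = D k A (a : A))
    (μ : B →ₗ[k] k) (hμ1 : μ 1 = 1)
    (hμ : ∀ e, μ.rTensor B (Coalgebra.comul (R := k) e) = μ e ⊗ₜ[k] (1 : B))
    (X : Submodule k (P π)) (hX : IsSubcomod (k := k) (A := B) X) (hXc : IsCompl (I0 π) X) :
    ∃ θ : P π →ₗ[k] k, (∀ a, twist h θ a ∈ X) ∧ ∀ x ∈ X, dl (B := B) θ x = 0 := by
  obtain ⟨g, hg⟩ := (ψ : B →ₐ[k] A).toLinearMap.exists_leftInverse_of_injective (LinearMap.ker_eq_bot.2 h.inj)
  let e : P π →ₗ[k] P π := (I0 π).subtype ∘ₗ Submodule.projectionOnto (I0 π) X hXc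
  have he : ∀ a, e a ∈ I0 π := fun a => (Submodule.projectionOnto (I0 π) X hXc a).2
  have he' : ∀ a, a - e a ∈ X := by
    intro a
    have h1 := Submodule.projectionOnto_apply_left hXc
      (Submodule.projectionOnto (I0 π) X hXc a)
    rw [← Submodule.ker_projectionOnto hXc, LinearMap.mem_ker, map_sub, sub_eq_zero]
    exact h1.symm
  have heX : ∀ x ∈ X, e x = 0 := by
    intro x hx
    have h1 : x ∈ LinearMap.ker (Submodule.projectionOnto (I0 π) X hXc) := by
      rwa [Submodule.ker_projectionOnto hXc]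
    change ((Submodule.projectionOnto (I0 π) X hXc x : I0 π) : P π) = 0
    rw [LinearMap.mem_ker.1 h1]
    rfl
  have heI : ∀ x ∈ I0 π, e x = x := by
    intro x hx
    exact congrArg Subtype.val (Submodule.projectionOnto_apply_left hXc ⟨x, hx⟩)
  have hedact : ∀ (φ : B →ₗ[k] k) (a : P π), e (dact (P π) φ a) = dact (P π) φ (e a) := by
    intro φ a
    have h1 : dact (P π) φ a = dact (P π) φ (e a) + dact (P π) φ (a - e a) := by
      rw [← map_add, add_sub_cancel]
    rw [h1, map_add, heX _ ((isSubcomod_iff_dact X).1 hX φ _ (he' a)), add_zero]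
    exact heI _ ((isSubcomod_iff_dact (I0 π)).1 (isSubcomod_I0 h hc) φ _ (he a))
  have heh : IsComodHom k B e := (isComodHom_iff_dact e).2 hedact
  let f : P π →ₗ[k] B := g ∘ₗ (P π).subtype ∘ₗ e
  have hψf : ∀ a, ψ (f a) = (e a : A) := by
    intro a
    obtain ⟨b, hb, -⟩ := exists_psi h (e a).2 (he a)
    have h1 : g ((e a : P π) : A) = b := by
      rw [← hb]
      exact LinearMap.congr_fun hg b
    change ψ (g ((e a : P π) : A)) = _
    rw [h1, hb]
  have hcr := crossed_eq (BialgHom.id k B) μ hμ1 hμ f (by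
    intro a
    have hinj : Function.Injective (TensorProduct.map (ψ : B →ₐ[k] A).toLinearMap
        (ψ : B →ₐ[k] A).toLinearMap) := by
      have h2 : TensorProduct.map (ψ : B →ₐ[k] A).toLinearMap (ψ : B →ₐ[k] A).toLinearMap =
          (ψ : B →ₐ[k] A).toLinearMap.rTensor A ∘ₗ (ψ : B →ₐ[k] A).toLinearMap.lTensor B := by
        rw [LinearMap.rTensor_comp_lTensor]
      rw [h2]
      exact (Module.Flat.rTensor_preserves_injective_linearMap _ h.inj).comp
        (Module.Flat.lTensor_preserves_injective_linearMap _ h.inj)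
    apply hinj
    have h1 : TensorProduct.map (ψ : B →ₐ[k] A).toLinearMap (ψ : B →ₐ[k] A).toLinearMap
        (Coalgebra.comul (R := k) (f a)) = Coalgebra.comul (R := k) (ψ (f a)) :=
      CoalgHomClass.map_comp_comul_apply ψ (f a)
    have h2 : Coalgebra.comul (R := k) ((e a : P π) : A) = (1 : A) ⊗ₜ[k] ((e a : P π) : A) +
        incl ψ π (e.rTensor B (Comod.coact (k := k) (A := B) a)) := by
      rw [← heh a, hc, D_apply]; abel
    have h3 : ∀ z : P π ⊗[k] B, incl ψ π (e.rTensor B z) =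
        TensorProduct.map (ψ : B →ₐ[k] A).toLinearMap (ψ : B →ₐ[k] A).toLinearMap
          (TensorProduct.map f ((BialgHom.id k B : B →ₐc[k] B) : B →ₐ[k] B).toLinearMap z) := by
      intro z
      induction z with
      | zero => simp
      | add x y hx hy => simp only [map_add, hx, hy]
      | tmul x y =>
        rw [LinearMap.rTensor_tmul, incl_tmul, TensorProduct.map_tmul, TensorProduct.map_tmul]
        congr 1
        exact (hψf x).symm
    rw [h1, hψf, h2, map_add, TensorProduct.map_tmul, h3]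
    congr 2
    · exact (map_one (ψ : B →ₐ[k] A)).symm
    · exact (hψf a).symm)
  refine ⟨μ ∘ₗ f, fun a => ?_, fun x hx => ?_⟩
  · have h1 : twist h (μ ∘ₗ f) a = a - e a := by
      apply Subtype.ext
      rw [coe_twist, Submodule.coe_sub, ← hψf a]
      have h2 : dl (B := B) (μ ∘ₗ f) a = - f a := by
        have h3 := hcr a
        exact eq_neg_of_add_eq_zero_right h3
      rw [h2]
      have h4 : ψ (- f a) = - ψ (f a) := map_neg (ψ : B →ₐ[k] A) _
      rw [h4, ← sub_eq_add_neg]
    rw [h1]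
    exact he' a
  · have h3 := hcr x
    have h4 : f x = 0 := by
      apply h.inj
      have h5 : ψ (0 : B) = 0 := map_zero (ψ : B →ₐ[k] A)
      rw [hψf, heX x hx, h5]
      rfl
    rw [h4, zero_add] at h3
    exact h3

end comod

end K503.CrLin
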