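import Groth.Agent.SGA3.K503.Frame
import Groth.Agent.Sga3.H814.SubInv
import Groth.Agent.Books.ComodHom

/-!
# The comodule of functions additive along the kernel of an extension

`P π = {a | (id ⊗ π)Δa = a ⊗ 1 + 1 ⊗ π a}`. For an extension `1 → Spec C → Spec A → Spec B → 1` it is a right comodule
over `B` (`comodP`), with `Δ a = 1 ⊗ a + Σ aᵢ ⊗ ψ(bᵢ)` when the coaction of `a` is `Σ aᵢ ⊗ bᵢ`
(`comul_eq`); the map `π` sends it onto the primitive elements of `C` (`exists_mem_P`) with kernel `ψ(ker ε)` (`exists_psi`).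
-/

set_option autoImplicit false

universe u v

open TensorProduct WithConv HopfRep

namespace K503.CrMod

open Groth.Agent.Books.NormalKer Groth.Agent.Books.CoidealFlat Groth.Agent.Books.ComodBasic
open Groth.Agent.Books.ComodHom K503.Frame

variable {k : Type u} [Field k] {A B C : Type v} [CommRing A] [HopfAlgebra k A] [CommRing B] [HopfAlgebra k B]
  [CommRing C] [HopfAlgebra k C]

/-- functions additive along the kernel -/
noncomputable def P (π : A →ₐc[k] C) : Submodule k A where
  carrier := {a | rho π a = a ⊗ₜ[k] (1 : C) + (1 : A) ⊗ₜ[k] π a}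
  add_mem' := by
    intro a b ha hb
    simp only [Set.mem_setOf_eq, Set.mem_ofPred_eq] at ha hb ⊢
    rw [map_add, ha, hb, TensorProduct.add_tmul]
    have : π (a + b) = π a + π b := map_add (π : A →ₐ[k] C) a b
    rw [this, TensorProduct.tmul_add]
    abel
  zero_mem' := by
    simp only [Set.mem_setOf_eq, Set.mem_ofPred_eq]
    have : π (0 : A) = 0 := map_zero (π : A →ₐ[k] C)
    rw [this, map_zero, TensorProduct.zero_tmul, TensorProduct.tmul_zero, add_zero]
  smul_mem' := by
    intro c x hx
    simp only [Set.mem_setOf_eq, Set.mem_ofPred_eq] at hx ⊢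
    have : π (c • x) = c • π x := map_smul (π : A →ₐ[k] C) c x
    rw [this, map_smul, hx, smul_add, TensorProduct.smul_tmul', TensorProduct.tmul_smul]

variable {ψ : B →ₐc[k] A} {π : A →ₐc[k] C}

theorem mem_P {a : A} : a ∈ P π ↔ rho π a = a ⊗ₜ[k] (1 : C) + (1 : A) ⊗ₜ[k] π a := Iff.rfl

/-- the counit in the first variable of the right translation coaction -/
theorem counit_rho (a : A) : TensorProduct.lid k C ((Coalgebra.counit (R := k) (A := A)).rTensor C (rho π a)) = π a := by
  have h1 : ∀ z : A ⊗[k] A, TensorProduct.lid k C ((Coalgebra.counit (R := k) (A := A)).rTensor C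
      ((π : A →ₐ[k] C).toLinearMap.lTensor A z)) =
      (π : A →ₐ[k] C) (TensorProduct.lid k A ((Coalgebra.counit (R := k) (A := A)).rTensor A z)) := by
    intro z
    induction z with
    | zero => simp
    | add x y hx hy => simp only [map_add, hx, hy]
    | tmul x y => simp
  rw [rho_apply, h1, Coalgebra.rTensor_counit_comul, TensorProduct.lid_tmul, one_smul]
  rfl

theorem counit_of_mem {a : A} (ha : a ∈ P π) : Coalgebra.counit (R := k) a = 0 := by
  have h1 := counit_rho (π := π) a
  rw [mem_P.1 ha, map_add, map_add, LinearMap.rTensor_tmul, LinearMap.rTensor_tmul, TensorProduct.lid_tmul,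
    TensorProduct.lid_tmul, Bialgebra.counit_one, one_smul] at h1
  have h2 : Coalgebra.counit (R := k) a • (1 : C) = 0 := add_eq_right.1 h1
  have h3 := congrArg (Coalgebra.counit (R := k)) h2
  rwa [map_smul, Bialgebra.counit_one, map_zero, smul_eq_mul, mul_one] at h3

theorem prim_of_mem {a : A} (ha : a ∈ P π) :
    Coalgebra.comul (R := k) (π a) = π a ⊗ₜ[k] (1 : C) + (1 : C) ⊗ₜ[k] π a := by
  have h1 : Coalgebra.comul (R := k) (π a) = (π : A →ₐ[k] C).toLinearMap.rTensor C (rho π a) := by
    rw [rho_apply, ← LinearMap.comp_apply, LinearMap.rTensor_comp_lTensor]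
    exact (CoalgHomClass.map_comp_comul_apply π a).symm
  rw [h1, mem_P.1 ha, map_add, LinearMap.rTensor_tmul, LinearMap.rTensor_tmul]
  congr 2
  exact map_one (π : A →ₐ[k] C)

theorem psi_mem (h : Ext ψ π) {b : B} (hb : Coalgebra.counit (R := k) b = 0) : ψ b ∈ P π := by
  rw [mem_P, h.rho_psi, h.pi_psi, hb, map_zero, TensorProduct.tmul_zero, add_zero]

theorem exists_psi (h : Ext ψ π) {a : A} (ha : a ∈ P π) (h0 : π a = 0) :
    ∃ b, ψ b = a ∧ Coalgebra.counit (R := k) b = 0 := by
  obtain ⟨b, hb⟩ := h.mem_range (a := a) (by rw [mem_P.1 ha, h0, TensorProduct.tmul_zero, add_zero])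
  refine ⟨b, hb, ?_⟩
  have h1 := counit_of_mem ha
  rw [← hb] at h1
  rwa [CoalgHomClass.counit_comp_apply] at h1

theorem exists_mem_P (h : Ext ψ π) {f : C}
    (hf : Coalgebra.comul (R := k) f = f ⊗ₜ[k] (1 : C) + (1 : C) ⊗ₜ[k] f) : ∃ a ∈ P π, π a = f := by
  obtain ⟨a, ha⟩ := h.exists_lift hf
  have h1 := counit_rho (π := π) a
  rw [ha, map_add, map_add, LinearMap.rTensor_tmul, LinearMap.rTensor_tmul, TensorProduct.lid_tmul,
    TensorProduct.lid_tmul, Bialgebra.counit_one, one_smul] at h1
  have h2 : π (a - Coalgebra.counit (R := k) a • (1 : A)) = f := by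
    have h3 : π (a - Coalgebra.counit (R := k) a • (1 : A)) = π a - Coalgebra.counit (R := k) a • (1 : C) := by
      have h4 : (π : A →ₐ[k] C) (a - Coalgebra.counit (R := k) a • (1 : A)) =
          (π : A →ₐ[k] C) a - Coalgebra.counit (R := k) a • (1 : C) := by
        rw [map_sub, map_smul, map_one]
      exact h4
    rw [h3, ← h1, add_sub_cancel_left]
  refine ⟨a - Coalgebra.counit (R := k) a • (1 : A), ?_, h2⟩
  rw [mem_P, h2, map_sub, ha, map_smul, map_one, Algebra.TensorProduct.one_def, TensorProduct.sub_tmul,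
    TensorProduct.smul_tmul']
  abel

/-- the operators `a ↦ a₁ f(a₂)` and the comultiplication -/
theorem comul_dact (f : A →ₗ[k] k) (a : A) : Coalgebra.comul (R := k) (dact A f a) =
    (dact A f).lTensor A (Coalgebra.comul (R := k) a) := by
  have h1 : ∀ z : A ⊗[k] A, Coalgebra.comul (R := k) (slice A f z) =
      (slice A f).lTensor A (TensorProduct.assoc k A A A ((Coalgebra.comul (R := k) (A := A)).rTensor A z)) := by
    intro z
    induction z with
    | zero => simp
    | add x y hx hy => simp only [map_add, hx, hy]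
    | tmul x y =>
      rw [slice_tmul, map_smul, LinearMap.rTensor_tmul]
      generalize Coalgebra.comul (R := k) x = t
      induction t with
      | zero => simp
      | add u v hu hv => simp only [TensorProduct.add_tmul, map_add, smul_add, hu, hv]
      | tmul u v =>
        rw [TensorProduct.assoc_tmul, LinearMap.lTensor_tmul, slice_tmul, TensorProduct.tmul_smul]
  have h2 : ∀ z : A ⊗[k] A, (dact A f).lTensor A z =
      (slice A f).lTensor A ((Coalgebra.comul (R := k) (A := A)).lTensor A z) := by
    intro z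
    rw [← LinearMap.comp_apply, ← LinearMap.lTensor_comp]
    rfl
  rw [h2, ← Coalgebra.coassoc_apply, ← h1]
  rfl

theorem dact_psi (f : A →ₗ[k] k) (b : B) : dact A f (ψ b) =
    ψ (dact B (f ∘ₗ (ψ : B →ₐ[k] A).toLinearMap) b) := by
  have h1 : (Coalgebra.comul (R := k) (ψ b)) = TensorProduct.map (ψ : B →ₐ[k] A).toLinearMap
      (ψ : B →ₐ[k] A).toLinearMap (Coalgebra.comul (R := k) b) := (CoalgHomClass.map_comp_comul_apply ψ b).symm
  have h2 : ∀ z : B ⊗[k] B, slice A f (TensorProduct.map (ψ : B →ₐ[k] A).toLinearMap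
      (ψ : B →ₐ[k] A).toLinearMap z) = (ψ : B →ₐ[k] A) (slice B (f ∘ₗ (ψ : B →ₐ[k] A).toLinearMap) z) := by
    intro z
    induction z with
    | zero => simp
    | add x y hx hy => simp only [map_add, hx, hy]
    | tmul x y =>
      rw [TensorProduct.map_tmul, slice_tmul, slice_tmul, map_smul]
      rfl
  change slice A f (Coalgebra.comul (R := k) (ψ b)) = _
  rw [h1, h2]
  rfl

/-- the map `a ↦ Δ a - 1 ⊗ a` -/
noncomputable def D (k : Type u) [Field k] (A : Type v) [CommRing A] [HopfAlgebra k A] : A →ₗ[k] A ⊗[k] A :=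
  Coalgebra.comul - TensorProduct.mk k A A 1

theorem D_apply (a : A) : D k A a = Coalgebra.comul (R := k) a - (1 : A) ⊗ₜ[k] a := rfl

theorem mem_P_iff (h : Ext ψ π) (a : A) : a ∈ P π ↔ Coalgebra.counit (R := k) a = 0 ∧
    D k A a ∈ LinearMap.range ((ψ : B →ₐ[k] A).toLinearMap.lTensor A) := by
  constructor
  · intro ha
    exact ⟨counit_of_mem ha, h.comul_sub_mem ha⟩
  · rintro ⟨h0, z, hz⟩
    have h1 : Coalgebra.comul (R := k) a = (1 : A) ⊗ₜ[k] a + (ψ : B →ₐ[k] A).toLinearMap.lTensor A z := by
      rw [hz, D_apply]; abel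
    -- the counit in the second variable
    have h2 : TensorProduct.rid k A ((Coalgebra.counit (R := k) (A := B)).lTensor A z) = a := by
      have h3 := Coalgebra.lTensor_counit_comul (R := k) a
      have h4 : ∀ z : A ⊗[k] B, (Coalgebra.counit (R := k) (A := A)).lTensor A
          ((ψ : B →ₐ[k] A).toLinearMap.lTensor A z) = (Coalgebra.counit (R := k) (A := B)).lTensor A z := by
        intro z
        rw [← LinearMap.comp_apply, ← LinearMap.lTensor_comp]
        congr 2
        ext b
        exact CoalgHomClass.counit_comp_apply ψ b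
      rw [h1, map_add, LinearMap.lTensor_tmul, h0, TensorProduct.tmul_zero, zero_add, h4] at h3
      rw [h3, TensorProduct.rid_tmul, one_smul]
    rw [mem_P, rho_apply, h1, map_add, LinearMap.lTensor_tmul, add_comm]
    congr 1
    have h5 : ∀ z : A ⊗[k] B, (π : A →ₐ[k] C).toLinearMap.lTensor A ((ψ : B →ₐ[k] A).toLinearMap.lTensor A z) =
        TensorProduct.rid k A ((Coalgebra.counit (R := k) (A := B)).lTensor A z) ⊗ₜ[k] (1 : C) := by
      intro z
      induction z with
      | zero => simp
      | add x y hx hy => simp only [map_add, hx, hy, TensorProduct.add_tmul]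
      | tmul x y =>
        rw [LinearMap.lTensor_tmul, LinearMap.lTensor_tmul, LinearMap.lTensor_tmul, TensorProduct.rid_tmul]
        have h6 : (π : A →ₐ[k] C).toLinearMap ((ψ : B →ₐ[k] A).toLinearMap y) =
          algebraMap k C (Coalgebra.counit (R := k) y) := h.pi_psi y
        rw [h6, Algebra.algebraMap_eq_smul_one, TensorProduct.tmul_smul, TensorProduct.smul_tmul']
    rw [h5, h2]

theorem slice_mem (h : Ext ψ π) {a : A} (ha : a ∈ P π) (f : A →ₗ[k] k) : slice A f (D k A a) ∈ P π := by
  have h0 : slice A f (D k A a) = dact A f a - f a • (1 : A) := by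
    rw [D_apply, map_sub, slice_tmul]
    rfl
  rw [h0, mem_P_iff h]
  obtain ⟨h1, z, hz⟩ := (mem_P_iff h a).1 ha
  have h2 : Coalgebra.comul (R := k) a = (1 : A) ⊗ₜ[k] a + (ψ : B →ₐ[k] A).toLinearMap.lTensor A z := by
    rw [hz, D_apply]; abel
  constructor
  · rw [map_sub, map_smul, Bialgebra.counit_one, smul_eq_mul, mul_one, sub_eq_zero]
    have h3 : ∀ z : A ⊗[k] A, Coalgebra.counit (R := k) (slice A f z) =
        f (TensorProduct.lid k A ((Coalgebra.counit (R := k) (A := A)).rTensor A z)) := by
      intro z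
      induction z with
      | zero => simp
      | add x y hx hy => simp only [map_add, hx, hy]
      | tmul x y => simp [slice_tmul, mul_comm]
    change Coalgebra.counit (R := k) (slice A f (Coalgebra.comul (R := k) a)) = _
    rw [h3, Coalgebra.rTensor_counit_comul, TensorProduct.lid_tmul, one_smul]
  · refine ⟨(dact B (f ∘ₗ (ψ : B →ₐ[k] A).toLinearMap)).lTensor A z, ?_⟩
    have h4 : ∀ z : A ⊗[k] B, (ψ : B →ₐ[k] A).toLinearMap.lTensor A
        ((dact B (f ∘ₗ (ψ : B →ₐ[k] A).toLinearMap)).lTensor A z) =
        (dact A f).lTensor A ((ψ : B →ₐ[k] A).toLinearMap.lTensor A z) := by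
      intro z
      rw [← LinearMap.comp_apply, ← LinearMap.comp_apply (LinearMap.lTensor A (dact A f)), ← LinearMap.lTensor_comp,
        ← LinearMap.lTensor_comp]
      congr 2
      ext b
      exact (dact_psi f b).symm
    rw [h4, D_apply, map_sub, comul_dact, h2, map_add, map_smul, Bialgebra.comul_one, LinearMap.lTensor_tmul,
      TensorProduct.tmul_sub, TensorProduct.tmul_smul, Algebra.TensorProduct.one_def]
    abel

/-- the inclusion `P ⊗ B → A ⊗ A` -/
noncomputable def incl (ψ : B →ₐc[k] A) (π : A →ₐc[k] C) : P π ⊗[k] B →ₗ[k] A ⊗[k] A :=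
  TensorProduct.map (P π).subtype (ψ : B →ₐ[k] A).toLinearMap

theorem incl_tmul (a : P π) (b : B) : incl ψ π (a ⊗ₜ b) = (a : A) ⊗ₜ[k] ψ b := rfl

theorem incl_injective (h : Ext ψ π) : Function.Injective (incl ψ π) := by
  have h1 : incl ψ π = (P π).subtype.rTensor A ∘ₗ (ψ : B →ₐ[k] A).toLinearMap.lTensor (P π) := by
    rw [LinearMap.rTensor_comp_lTensor]; rfl
  rw [h1]
  exact (Module.Flat.rTensor_preserves_injective_linearMap _ (P π).injective_subtype).comp
    (Module.Flat.lTensor_preserves_injective_linearMap _ h.inj)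

theorem D_mem_range (h : Ext ψ π) {a : A} (ha : a ∈ P π) : D k A a ∈ LinearMap.range (incl ψ π) := by
  have h1 := Groth.Agent.Sga3.H814.SubInv.mem_range_map (P π) (LinearMap.range (ψ : B →ₐ[k] A).toLinearMap)
    (D k A a) (fun f => slice_mem h ha f) (by
      intro φ
      obtain ⟨z, hz⟩ := ((mem_P_iff h a).1 ha).2
      rw [← hz]
      have : ∀ z : A ⊗[k] B, TensorProduct.lid k A (φ.rTensor A ((ψ : B →ₐ[k] A).toLinearMap.lTensor A z)) ∈
          LinearMap.range (ψ : B →ₐ[k] A).toLinearMap := by
        intro z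
        induction z with
        | zero => simp
        | add x y hx hy => simp only [map_add]; exact Submodule.add_mem _ hx hy
        | tmul x y =>
          rw [LinearMap.lTensor_tmul, LinearMap.rTensor_tmul, TensorProduct.lid_tmul]
          exact Submodule.smul_mem _ _ ⟨y, rfl⟩
      exact this z)
  obtain ⟨y, hy⟩ := h1
  rw [← hy]
  clear hy
  induction y with
  | zero => rw [map_zero]; exact Submodule.zero_mem _
  | add x y hx hy => rw [map_add]; exact Submodule.add_mem _ hx hy
  | tmul x y =>
    obtain ⟨_, b, rfl⟩ := y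
    exact ⟨x ⊗ₜ b, rfl⟩

/-- the coaction on `P` -/
noncomputable def coactP (h : Ext ψ π) : P π →ₗ[k] P π ⊗[k] B :=
  (LinearEquiv.ofInjective (incl ψ π) (incl_injective h)).symm.toLinearMap ∘ₗ
    (D k A ∘ₗ (P π).subtype).codRestrict (LinearMap.range (incl ψ π)) (fun a => D_mem_range h a.2)

theorem incl_coactP (h : Ext ψ π) (a : P π) : incl ψ π (coactP h a) = D k A (a : A) := by
  have h1 := (LinearEquiv.ofInjective (incl ψ π) (incl_injective h)).apply_symm_apply
    ((D k A ∘ₗ (P π).subtype).codRestrict (LinearMap.range (incl ψ π)) (fun a => D_mem_range h a.2) a)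
  have h2 := congrArg Subtype.val h1
  exact h2

theorem D_one : D k A (1 : A) = 0 := by
  rw [D_apply, Bialgebra.comul_one, Algebra.TensorProduct.one_def, sub_self]

/-- `P` is a right comodule over `B`. -/
@[reducible] noncomputable def comodP (h : Ext ψ π) : Comod k B (P π) where
  coact := coactP h
  coassoc := by
    ext a : 1
    let J : P π ⊗[k] (B ⊗[k] B) →ₗ[k] A ⊗[k] (A ⊗[k] A) := TensorProduct.map (P π).subtype
      (TensorProduct.map (ψ : B →ₐ[k] A).toLinearMap (ψ : B →ₐ[k] A).toLinearMap)
    have hJ : Function.Injective J := by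
      have h1 : J = (P π).subtype.rTensor (A ⊗[k] A) ∘ₗ (TensorProduct.map (ψ : B →ₐ[k] A).toLinearMap
          (ψ : B →ₐ[k] A).toLinearMap).lTensor (P π) := by
        rw [LinearMap.rTensor_comp_lTensor]
      have h2 : TensorProduct.map (ψ : B →ₐ[k] A).toLinearMap (ψ : B →ₐ[k] A).toLinearMap =
          (ψ : B →ₐ[k] A).toLinearMap.rTensor A ∘ₗ (ψ : B →ₐ[k] A).toLinearMap.lTensor B := by
        rw [LinearMap.rTensor_comp_lTensor]
      rw [h1]
      refine (Module.Flat.rTensor_preserves_injective_linearMap _ (P π).injective_subtype).comp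
        (Module.Flat.lTensor_preserves_injective_linearMap _ ?_)
      rw [h2]
      exact (Module.Flat.rTensor_preserves_injective_linearMap _ h.inj).comp
        (Module.Flat.lTensor_preserves_injective_linearMap _ h.inj)
    apply hJ
    have hL : ∀ z : P π ⊗[k] B, J (TensorProduct.assoc k (P π) B B ((coactP h).rTensor B z)) =
        TensorProduct.assoc k A A A ((D k A).rTensor A (incl ψ π z)) := by
      intro z
      induction z with
      | zero => simp
      | add x y hx hy => simp only [map_add, hx, hy]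
      | tmul x y =>
        rw [LinearMap.rTensor_tmul, incl_tmul, LinearMap.rTensor_tmul, ← incl_coactP h x]
        generalize coactP h x = t
        induction t with
        | zero => simp
        | add u v hu hv => simp only [TensorProduct.add_tmul, map_add, hu, hv]
        | tmul u v => rfl
    have hR : ∀ z : P π ⊗[k] B, J ((Coalgebra.comul (R := k) (A := B)).lTensor (P π) z) =
        (Coalgebra.comul (R := k) (A := A)).lTensor A (incl ψ π z) := by
      intro z
      induction z with
      | zero => simp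
      | add x y hx hy => simp only [map_add, hx, hy]
      | tmul x y =>
        rw [LinearMap.lTensor_tmul, incl_tmul, LinearMap.lTensor_tmul]
        change (x : A) ⊗ₜ[k] _ = (x : A) ⊗ₜ[k] _
        congr 1
        exact CoalgHomClass.map_comp_comul_apply ψ y
    refine (hL _).trans (Eq.trans ?_ (hR _).symm)
    rw [incl_coactP, D_apply, map_sub, map_sub, map_sub, LinearMap.rTensor_tmul, D_one, TensorProduct.zero_tmul,
      map_zero, sub_zero, LinearMap.lTensor_tmul]
    have h3 : ∀ z : A ⊗[k] A, TensorProduct.assoc k A A A ((D k A).rTensor A z) =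
        TensorProduct.assoc k A A A ((Coalgebra.comul (R := k) (A := A)).rTensor A z) - (1 : A) ⊗ₜ[k] z := by
      intro z
      induction z with
      | zero => simp
      | add x y hx hy => simp only [map_add, hx, hy, TensorProduct.tmul_add]; abel
      | tmul x y =>
        rw [LinearMap.rTensor_tmul, LinearMap.rTensor_tmul, D_apply, TensorProduct.sub_tmul, map_sub,
          TensorProduct.assoc_tmul]
    rw [h3, Coalgebra.coassoc_apply]
  counit_comp := by
    ext a : 1
    have h1 : ∀ z : P π ⊗[k] B, (P π).subtype.rTensor k ((Coalgebra.counit (R := k) (A := B)).lTensor (P π) z) =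
        (Coalgebra.counit (R := k) (A := A)).lTensor A (incl ψ π z) := by
      intro z
      induction z with
      | zero => simp
      | add x y hx hy => simp only [map_add, hx, hy]
      | tmul x y =>
        rw [LinearMap.lTensor_tmul, LinearMap.rTensor_tmul, incl_tmul, LinearMap.lTensor_tmul,
          CoalgHomClass.counit_comp_apply]
        rfl
    apply Module.Flat.rTensor_preserves_injective_linearMap (M := k) _ (P π).injective_subtype
    refine (h1 _).trans ?_
    rw [incl_coactP, D_apply, map_sub, Coalgebra.lTensor_counit_comul, LinearMap.lTensor_tmul, counit_of_mem a.2,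
      TensorProduct.tmul_zero, sub_zero]
    rfl

end K503.CrMod
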