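import Groth.Agent.SGA3.K503.CrMod
import Groth.Agent.Books.SubHopf

/-!
# The cut theorem

`h : Ext ψ π` an extension `1 → Spec C → Spec A → Spec B → 1`, `W` a subspace of the functions which are additive along the
kernel, such that `π` is injective on the algebra generated by `W`. Then the closed subscheme `W = 0` of `Spec A` maps onto
`Spec B` (`cut`): `ψ b ∈ (W)` implies `b = 0`.
-/

set_option autoImplicit false

universe u v

open TensorProduct WithConv HopfRep

namespace K503.Cut

open Groth.Agent.Books.NormalKer Groth.Agent.Books.CoidealFlat Groth.Agent.Books.SubHopf K503.Frame K503.CrMod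

variable {k : Type u} [Field k] {A B C : Type v} [CommRing A] [HopfAlgebra k A] [CommRing B] [HopfAlgebra k B]
  [CommRing C] [HopfAlgebra k C]

theorem antipode_prim {c : C} (hc : Coalgebra.comul (R := k) c = c ⊗ₜ[k] (1 : C) + (1 : C) ⊗ₜ[k] c) :
    HopfAlgebraStruct.antipode k c = -c := by
  have h0 : Coalgebra.counit (R := k) c = 0 := by
    have h1 := Coalgebra.rTensor_counit_comul (R := k) c
    rw [hc, map_add, LinearMap.rTensor_tmul, LinearMap.rTensor_tmul, Bialgebra.counit_one] at h1
    have h2 : Coalgebra.counit (R := k) c ⊗ₜ[k] (1 : C) = 0 := add_eq_right.1 h1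
    have h3 := congrArg (TensorProduct.lid k C) h2
    rw [TensorProduct.lid_tmul, map_zero] at h3
    have h4 := congrArg (Coalgebra.counit (R := k)) h3
    rwa [map_smul, Bialgebra.counit_one, map_zero, smul_eq_mul, mul_one] at h4
  have h1 := HopfAlgebra.mul_antipode_rTensor_comul_apply (R := k) c
  rw [hc, map_add, LinearMap.rTensor_tmul, LinearMap.rTensor_tmul, map_add, LinearMap.mul'_apply,
    LinearMap.mul'_apply, h0, map_zero, mul_one, HopfAlgebra.antipode_one, one_mul] at h1
  exact eq_neg_of_add_eq_zero_left h1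

/-- the subalgebra generated by a set of primitive elements is a sub-Hopf algebra -/
theorem isSubHopf_adjoin (S : Set C)
    (hS : ∀ c ∈ S, Coalgebra.comul (R := k) c = c ⊗ₜ[k] (1 : C) + (1 : C) ⊗ₜ[k] c) :
    IsSubHopf (k := k) (Algebra.adjoin k S) where
  comul_mem := by
    intro b hb
    have h1 : (Bialgebra.comulAlgHom k C) b ∈ (incl2 (k := k) (Algebra.adjoin k S)).range := by
      induction hb using Algebra.adjoin_induction with
      | mem x hx =>
        refine ⟨⟨x, Algebra.subset_adjoin hx⟩ ⊗ₜ 1 + 1 ⊗ₜ ⟨x, Algebra.subset_adjoin hx⟩, ?_⟩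
        have h2 : (Bialgebra.comulAlgHom k C) x = x ⊗ₜ[k] (1 : C) + (1 : C) ⊗ₜ[k] x := hS x hx
        rw [h2]
        exact map_add _ _ _
      | algebraMap r => rw [AlgHom.commutes]; exact Subalgebra.algebraMap_mem _ r
      | add x y _ _ hx hy => rw [map_add]; exact add_mem hx hy
      | mul x y _ _ hx hy => rw [map_mul]; exact mul_mem hx hy
    exact h1
  antipode_mem := by
    intro b hb
    have h1 : (HopfAlgebra.antipodeAlgHom k C) b ∈ Algebra.adjoin k S := by
      induction hb using Algebra.adjoin_induction with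
      | mem x hx =>
        have h2 : (HopfAlgebra.antipodeAlgHom k C) x = - x := antipode_prim (hS x hx)
        rw [h2]
        exact neg_mem (Algebra.subset_adjoin hx)
      | algebraMap r => rw [AlgHom.commutes]; exact Subalgebra.algebraMap_mem _ r
      | add x y _ _ hx hy => rw [map_add]; exact add_mem hx hy
      | mul x y _ _ hx hy => rw [map_mul]; exact mul_mem hx hy
    exact h1

/-- faithful flatness over the subalgebra generated by primitive elements -/
theorem ff_adjoin (S : Set C)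
    (hS : ∀ c ∈ S, Coalgebra.comul (R := k) c = c ⊗ₜ[k] (1 : C) + (1 : C) ⊗ₜ[k] c) :
    Module.FaithfullyFlat (Algebra.adjoin k S) C := by
  have hB := isSubHopf_adjoin S hS
  let _ := hB.hopf
  have h1 := faithfullyFlat_of_injective hB.val hB.val_injective
  have h2 : (algebraMap (Algebra.adjoin k S) C).FaithfullyFlat := h1
  rwa [RingHom.faithfullyFlat_algebraMap_iff] at h2

variable {ψ : B →ₐc[k] A} {π : A →ₐc[k] C}

/-- **The cut theorem.** -/
theorem cut (h : Ext ψ π) (W : Submodule k A) (hW : W ≤ P π)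
    (hinj : ∀ a ∈ Algebra.adjoin k (W : Set A), π a = 0 → a = 0) {b : B}
    (hb : ψ b ∈ Ideal.span (W : Set A)) : b = 0 := by
  let S : Set C := (π : A →ₐ[k] C) '' (W : Set A)
  have hS : ∀ c ∈ S, Coalgebra.comul (R := k) c = c ⊗ₜ[k] (1 : C) + (1 : C) ⊗ₜ[k] c := by
    rintro _ ⟨a, ha, rfl⟩
    exact prim_of_mem (hW ha)
  let D : Subalgebra k C := Algebra.adjoin k S
  let DA : Subalgebra k A := Algebra.adjoin k (W : Set A)
  have hmap : DA.map (π : A →ₐ[k] C) = D := AlgHom.map_adjoin _ _
  let e0 : DA →ₐ[k] D := ((π : A →ₐ[k] C).comp DA.val).codRestrict D (fun a => by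
    rw [← hmap]; exact ⟨a, a.2, rfl⟩)
  have he0 : Function.Bijective e0 := by
    constructor
    · rw [injective_iff_map_eq_zero]
      intro a ha
      exact Subtype.ext (hinj a a.2 (congrArg Subtype.val ha))
    · rintro ⟨c, hc⟩
      rw [← hmap] at hc
      obtain ⟨a, ha, rfl⟩ := hc
      exact ⟨⟨a, ha⟩, rfl⟩
  let e : DA ≃ₐ[k] D := AlgEquiv.ofBijective e0 he0
  let j : D →ₐ[k] A := DA.val.comp (e.symm : D →ₐ[k] DA)
  have hj : ∀ a (ha : a ∈ W), j ⟨π a, Algebra.subset_adjoin ⟨a, ha, rfl⟩⟩ = a := by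
    intro a ha
    have h1 : e ⟨a, Algebra.subset_adjoin ha⟩ = ⟨π a, Algebra.subset_adjoin ⟨a, ha, rfl⟩⟩ := rfl
    have h2 : e.symm ⟨π a, Algebra.subset_adjoin ⟨a, ha, rfl⟩⟩ = ⟨a, Algebra.subset_adjoin ha⟩ := by
      rw [← h1, AlgEquiv.symm_apply_apply]
    exact congrArg Subtype.val h2
  let _ : Algebra D A := j.toRingHom.toAlgebra
  have hst : IsScalarTower k D A := IsScalarTower.of_algebraMap_eq' (j.comp_algebraMap).symm
  have hff : Module.FaithfullyFlat D C := ff_adjoin S hS
  let g : A →ₐ[k] C ⊗[D] A := (Algebra.TensorProduct.includeRight : A →ₐ[D] C ⊗[D] A).restrictScalars k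
  let v : C →ₐ[k] C ⊗[D] A := (Algebra.TensorProduct.includeLeft : C →ₐ[D] C ⊗[D] A).restrictScalars k
  let χ : A →ₐ[k] C ⊗[D] A := (Algebra.TensorProduct.lift g (v.comp (HopfAlgebra.antipodeAlgHom k C))
    (fun _ _ => Commute.all _ _)).comp (rho π)
  have hχW : ∀ a ∈ W, χ a = 0 := by
    intro a ha
    have h1 : χ a = g a * v (HopfAlgebraStruct.antipode k 1) + g 1 * v (HopfAlgebraStruct.antipode k (π a)) := by
      change (Algebra.TensorProduct.lift g (v.comp (HopfAlgebra.antipodeAlgHom k C)) (fun _ _ => Commute.all _ _)) (rho π a) = _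
      rw [mem_P.1 (hW ha), map_add, Algebra.TensorProduct.lift_tmul, Algebra.TensorProduct.lift_tmul]
      rfl
    rw [h1, HopfAlgebra.antipode_one, map_one, map_one, mul_one, one_mul,
      antipode_prim (prim_of_mem (hW ha)), map_neg]
    have h2 : v (π a) = g a := by
      change (π a) ⊗ₜ[D] (1 : A) = (1 : C) ⊗ₜ[D] a
      have h3 := TensorProduct.smul_tmul (R := D) (⟨π a, Algebra.subset_adjoin ⟨a, ha, rfl⟩⟩ : D) (1 : C) (1 : A)
      have h4 : (⟨π a, Algebra.subset_adjoin ⟨a, ha, rfl⟩⟩ : D) • (1 : C) = π a := by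
        rw [Subalgebra.smul_def, smul_eq_mul, mul_one]
      have h5 : (⟨π a, Algebra.subset_adjoin ⟨a, ha, rfl⟩⟩ : D) • (1 : A) = a := by
        rw [Algebra.smul_def, mul_one]
        exact hj a ha
      rw [h4, h5] at h3
      exact h3
    rw [h2, add_neg_cancel]
  have hχI : ∀ a ∈ Ideal.span (W : Set A), χ a = 0 := by
    intro a ha
    have h1 : Ideal.span (W : Set A) ≤ RingHom.ker χ := Ideal.span_le.2 hχW
    exact h1 ha
  have h1 := hχI _ hb
  have h2 : χ (ψ b) = g (ψ b) := by
    change (Algebra.TensorProduct.lift g (v.comp (HopfAlgebra.antipodeAlgHom k C)) (fun _ _ => Commute.all _ _)) (rho π (ψ b)) = _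
    rw [h.rho_psi, Algebra.TensorProduct.lift_tmul, map_one, mul_one]
  rw [h2] at h1
  have h3 := Module.FaithfullyFlat.tensorProduct_mk_injective (A := D) (B := C) A
  have h4 : ψ b = 0 := by
    apply h3
    rw [map_zero]
    exact h1
  exact h.inj (h4.trans (map_zero (ψ : B →ₐ[k] A)).symm)

end K503.Cut
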