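import Groth.Agent.Books.NormalKer3
import Groth.Agent.Books.CoidealFlat
import Mathlib.RingTheory.TensorProduct.IncludeLeftSubRight

/-!
# Extensions of affine groups: invariants and additive functions on the kernel

`Ext ψ π` : `ψ : B → A` is an injective map of commutative Hopf algebras over a field, `π : A → C` is surjective with kernel
generated by the augmentation ideal of `B` (an extension `1 → Spec C → Spec A → Spec B → 1`).

* `Ext.mem_range` : the right invariants of `Spec C` in `A` are `ψ(B)`;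
* `Ext.exists_lift` : for a primitive element `f` of `C` there is `a` in `A` with `(id ⊗ π)Δa = a ⊗ 1 + 1 ⊗ f`;
* `Ext.comul_sub_mem` : for such an element `Δ a - 1 ⊗ a` lies in `A ⊗ ψ(B)`.
-/

set_option autoImplicit false

universe u v

open TensorProduct WithConv HopfRep

namespace K503.Frame

open Groth.Agent.Books.NormalKer Groth.Agent.Books.CoidealFlat

attribute [local instance] ptInv ptGroup

variable {k : Type u} [Field k] {A B C : Type v} [CommRing A] [HopfAlgebra k A] [CommRing B] [HopfAlgebra k B]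
  [CommRing C] [HopfAlgebra k C]

theorem conv_left_cancel {D : Type v} [CommRing D] [Algebra k D] (g x y : WithConv (A →ₐ[k] D))
    (h : g * x = g * y) : x = y := by
  have h0 : g⁻¹ * g = 1 := inv_mul_cancel g
  have h1 : g⁻¹ * (g * x) = x := by
    refine (mul_assoc g⁻¹ g x).symm.trans ?_
    refine (congrArg (fun t => t * x) h0).trans ?_
    exact one_mul x
  have h2 : g⁻¹ * (g * y) = y := by
    refine (mul_assoc g⁻¹ g y).symm.trans ?_
    refine (congrArg (fun t => t * y) h0).trans ?_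
    exact one_mul y
  rw [← h1, h, h2]

/-- An extension of affine groups in Hopf form. -/
structure Ext (ψ : B →ₐc[k] A) (π : A →ₐc[k] C) : Prop where
  inj : Function.Injective ψ
  surj : Function.Surjective π
  ker : RingHom.ker (π : A →ₐ[k] C) = Ideal.map (ψ : B →ₐ[k] A) (RingHom.ker (Bialgebra.counitAlgHom k B))

variable {ψ : B →ₐc[k] A} {π : A →ₐc[k] C}

namespace Ext

theorem pi_psi (h : Ext ψ π) (b : B) : π (ψ b) = algebraMap k C (Coalgebra.counit (R := k) b) := by
  have h1 : ψ (b - algebraMap k B (Coalgebra.counit (R := k) b)) ∈ RingHom.ker (π : A →ₐ[k] C) := by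
    rw [h.ker]
    refine Ideal.mem_map_of_mem (ψ : B →ₐ[k] A) ?_
    rw [RingHom.mem_ker]
    change Coalgebra.counit (R := k) (b - algebraMap k B (Coalgebra.counit (R := k) b)) = 0
    rw [map_sub, Bialgebra.counit_algebraMap, sub_self]
  have h2 : (π : A →ₐ[k] C) (ψ (b - algebraMap k B (Coalgebra.counit (R := k) b))) = 0 := h1
  rw [map_sub, map_sub, sub_eq_zero] at h2
  refine h2.trans ?_
  have h3 : ψ (algebraMap k B (Coalgebra.counit (R := k) b)) = algebraMap k A (Coalgebra.counit (R := k) b) :=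
    (ψ : B →ₐ[k] A).commutes _
  rw [h3]
  exact (π : A →ₐ[k] C).commutes _

theorem rho_psi (h : Ext ψ π) (b : B) : rho π (ψ b) = ψ b ⊗ₜ[k] (1 : C) := by
  have h1 : (Coalgebra.comul (R := k) (ψ b)) = TensorProduct.map (ψ : B →ₐ[k] A).toLinearMap
      (ψ : B →ₐ[k] A).toLinearMap (Coalgebra.comul (R := k) b) := (CoalgHomClass.map_comp_comul_apply ψ b).symm
  rw [rho_apply, h1]
  have h2 : ∀ z : B ⊗[k] B, (π : A →ₐ[k] C).toLinearMap.lTensor A (TensorProduct.map (ψ : B →ₐ[k] A).toLinearMap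
      (ψ : B →ₐ[k] A).toLinearMap z) = TensorProduct.map (ψ : B →ₐ[k] A).toLinearMap
      ((Algebra.linearMap k C) ∘ₗ (Coalgebra.counit (R := k) (A := B))) z := by
    intro z
    induction z with
    | zero => simp
    | add x y hx hy => simp only [map_add, hx, hy]
    | tmul x y =>
      rw [TensorProduct.map_tmul, TensorProduct.map_tmul, LinearMap.lTensor_tmul]
      congr 1
      exact h.pi_psi y
  rw [h2]
  have h3 : ∀ z : B ⊗[k] B, TensorProduct.map (ψ : B →ₐ[k] A).toLinearMap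
      ((Algebra.linearMap k C) ∘ₗ (Coalgebra.counit (R := k) (A := B))) z =
      TensorProduct.map (ψ : B →ₐ[k] A).toLinearMap (Algebra.linearMap k C)
        ((Coalgebra.counit (R := k) (A := B)).lTensor B z) := by
    intro z
    induction z with
    | zero => simp
    | add x y hx hy => simp only [map_add, hx, hy]
    | tmul x y => rfl
  rw [h3, Coalgebra.lTensor_counit_comul, TensorProduct.map_tmul]
  congr 1
  exact (algebraMap k C).map_one

/-- the coaction of the kernel as a map over the base -/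
noncomputable def rhoR (h : Ext ψ π) : A →ₐ[rangeSub ψ] A ⊗[k] C :=
  { rho π with
    commutes' := by
      rintro ⟨_, b, rfl⟩
      exact h.rho_psi b }

theorem rhoR_apply (h : Ext ψ π) (a : A) : h.rhoR a = rho π a := rfl

variable (ψ) in
/-- the first inclusion of `A` in `A ⊗[B] A` -/
noncomputable def i1 : WithConv (A →ₐ[k] A ⊗[rangeSub ψ] A) :=
  toConv ((Algebra.TensorProduct.includeLeft : A →ₐ[rangeSub ψ] A ⊗[rangeSub ψ] A).restrictScalars k)

variable (ψ) in
/-- the second inclusion of `A` in `A ⊗[B] A` -/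
noncomputable def i2 : WithConv (A →ₐ[k] A ⊗[rangeSub ψ] A) :=
  toConv ((Algebra.TensorProduct.includeRight : A →ₐ[rangeSub ψ] A ⊗[rangeSub ψ] A).restrictScalars k)

theorem i1_apply (a : A) : (i1 ψ).ofConv a = a ⊗ₜ[rangeSub ψ] (1 : A) := rfl

theorem i2_apply (a : A) : (i2 ψ).ofConv a = (1 : A) ⊗ₜ[rangeSub ψ] a := rfl

theorem i1_psi (b : B) : (i1 ψ).ofConv (ψ b) = (i2 ψ).ofConv (ψ b) := by
  rw [i1_apply, i2_apply]
  have h1 := TensorProduct.smul_tmul (R := rangeSub ψ) (⟨ψ b, b, rfl⟩ : rangeSub ψ) (1 : A) (1 : A)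
  have h2 : (⟨ψ b, b, rfl⟩ : rangeSub ψ) • (1 : A) = ψ b := by
    rw [Subalgebra.smul_def, smul_eq_mul, mul_one]
  rw [h2] at h1
  exact h1

theorem ker_le_of (h : Ext ψ π) {R : Type v} [CommRing R] [Algebra k R] (m : WithConv (A →ₐ[k] R))
    (hm : ∀ b, m.ofConv (ψ b) = algebraMap k R (Coalgebra.counit (R := k) b)) :
    ∃ n : WithConv (C →ₐ[k] R), res π n = m := by
  have hker : RingHom.ker (π : A →ₐ[k] C) ≤ RingHom.ker m.ofConv := by
    rw [h.ker, Ideal.map_le_iff_le_comap]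
    intro b hb
    rw [Ideal.mem_comap, RingHom.mem_ker]
    refine (hm b).trans ?_
    have : Coalgebra.counit (R := k) b = 0 := hb
    rw [this, map_zero]
  let e := Ideal.quotientKerAlgEquivOfSurjective (f := (π : A →ₐ[k] C)) h.surj
  refine ⟨toConv ((Ideal.Quotient.liftₐ (RingHom.ker (π : A →ₐ[k] C)) m.ofConv hker).comp e.symm.toAlgHom), ?_⟩
  apply WithConv.ext
  apply AlgHom.ext
  intro a
  change Ideal.Quotient.liftₐ (RingHom.ker (π : A →ₐ[k] C)) m.ofConv hker (e.symm (π a)) = m.ofConv a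
  have : e.symm (π a) = Ideal.Quotient.mk _ a := by
    rw [AlgEquiv.symm_apply_eq]
    rfl
  rw [this]
  rfl

theorem res_psi_eq (m n : WithConv (A →ₐ[k] A ⊗[rangeSub ψ] A)) (h : ∀ b, m.ofConv (ψ b) = n.ofConv (ψ b)) (b : B) :
    (m⁻¹ * n).ofConv (ψ b) = algebraMap k (A ⊗[rangeSub ψ] A) (Coalgebra.counit (R := k) b) := by
  have h1 : res ψ m = res ψ n := by
    apply WithConv.ext
    apply AlgHom.ext
    intro b
    exact h b
  have h0 : m⁻¹ * m = 1 := inv_mul_cancel m
  have h2 : res ψ (m⁻¹ * n) = 1 := by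
    rw [map_mul, ← h1, ← map_mul]
    exact (congrArg (res ψ) h0).trans (map_one _)
  have h3 := congrArg (fun x : WithConv (B →ₐ[k] A ⊗[rangeSub ψ] A) => x.ofConv b) h2
  exact h3

theorem ff (h : Ext ψ π) : Module.FaithfullyFlat (rangeSub ψ) A :=
  faithfullyFlat_of_simple (isSubcomod_range_bialgHom ψ) (simple_of_bialgHom ψ h.inj)

theorem exists_n (h : Ext ψ π) : ∃ n : WithConv (C →ₐ[k] A ⊗[rangeSub ψ] A), i1 ψ * res π n = i2 ψ := by
  obtain ⟨n, hn⟩ := h.ker_le_of _ (res_psi_eq (i1 ψ) (i2 ψ) i1_psi)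
  exact ⟨n, by rw [hn]; exact mul_inv_cancel_left (i1 ψ) (i2 ψ)⟩

/-- The right invariants of the kernel are the functions on the base. -/
theorem mem_range (h : Ext ψ π) {a : A} (ha : rho π a = a ⊗ₜ[k] (1 : C)) : ∃ b, ψ b = a := by
  obtain ⟨n, hn⟩ := h.exists_n
  have h1 : (i2 ψ).ofConv a = (i1 ψ).ofConv a := by
    rw [← hn]
    refine (mul_res_apply π (i1 ψ) n a).trans ?_
    rw [ha, pair_tmul, map_one, mul_one]
  have h2 := h.ff
  have h3 : a ∈ Set.range (algebraMap (rangeSub ψ) A) := by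
    have := (Algebra.IsEffective.of_faithfullyFlat (rangeSub ψ) A) a
    have h4 := this.1 (by
      rw [Algebra.TensorProduct.includeLeftSubRight_apply, sub_eq_zero]
      exact h1.symm)
    exact h4
  obtain ⟨⟨_, b, rfl⟩, rfl⟩ := h3
  exact ⟨b, rfl⟩

theorem rho_eq_iff (h : Ext ψ π) (a : A) : rho π a = a ⊗ₜ[k] (1 : C) ↔ ∃ b, ψ b = a :=
  ⟨h.mem_range, by rintro ⟨b, rfl⟩; exact h.rho_psi b⟩

section Lift

/-- the trivial coaction as a map over the base -/
noncomputable def inclR (ψ : B →ₐc[k] A) (C : Type v) [CommRing C] [HopfAlgebra k C] :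
    A →ₐ[rangeSub ψ] A ⊗[k] C :=
  { (Algebra.TensorProduct.includeLeft : A →ₐ[k] A ⊗[k] C) with
    commutes' := fun _ => rfl }

/-- the first differential -/
noncomputable def d0 (h : Ext ψ π) : A →ₗ[rangeSub ψ] A ⊗[k] C := h.rhoR.toLinearMap - (inclR ψ C).toLinearMap

theorem d0_apply (h : Ext ψ π) (a : A) : h.d0 a = rho π a - a ⊗ₜ[k] (1 : C) := rfl

noncomputable def Phi1 (h : Ext ψ π) : A ⊗[rangeSub ψ] A →ₐ[k] A ⊗[rangeSub ψ] (A ⊗[k] C) :=
  (Algebra.TensorProduct.map (AlgHom.id (rangeSub ψ) A) h.rhoR).restrictScalars k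

noncomputable def Phi2 (ψ : B →ₐc[k] A) (C : Type v) [CommRing C] [HopfAlgebra k C] :
    A ⊗[rangeSub ψ] A →ₐ[k] A ⊗[rangeSub ψ] (A ⊗[k] C) :=
  (Algebra.TensorProduct.map (AlgHom.id (rangeSub ψ) A) (inclR ψ C)).restrictScalars k

noncomputable def j3 (ψ : B →ₐc[k] A) (C : Type v) [CommRing C] [HopfAlgebra k C] :
    WithConv (C →ₐ[k] A ⊗[rangeSub ψ] (A ⊗[k] C)) :=
  toConv (((Algebra.TensorProduct.includeRight : A ⊗[k] C →ₐ[rangeSub ψ] A ⊗[rangeSub ψ] (A ⊗[k] C)).restrictScalars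
    k).comp (Algebra.TensorProduct.includeRight : C →ₐ[k] A ⊗[k] C))

theorem j3_apply (c : C) : (j3 ψ C).ofConv c = (1 : A) ⊗ₜ[rangeSub ψ] ((1 : A) ⊗ₜ[k] c) := rfl

theorem lTensor_d0 (h : Ext ψ π) (z : A ⊗[rangeSub ψ] A) : h.d0.lTensor A z = h.Phi1 z - Phi2 ψ C z := by
  induction z with
  | zero => simp
  | add x y hx hy => rw [map_add, hx, hy, map_add, map_add]; abel
  | tmul x y =>
    rw [LinearMap.lTensor_tmul, d0_apply]
    change _ = x ⊗ₜ[rangeSub ψ] (rho π y) - x ⊗ₜ[rangeSub ψ] (y ⊗ₜ[k] (1 : C))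
    rw [TensorProduct.tmul_sub]

theorem phi_i1 (h : Ext ψ π) : push h.Phi1 (i1 ψ) = push (Phi2 ψ C) (i1 ψ) := by
  apply WithConv.ext
  apply AlgHom.ext
  intro a
  change a ⊗ₜ[rangeSub ψ] (rho π 1) = a ⊗ₜ[rangeSub ψ] ((1 : A) ⊗ₜ[k] (1 : C))
  rw [map_one]
  rfl

theorem phi_i2 (h : Ext ψ π) : push h.Phi1 (i2 ψ) = push (Phi2 ψ C) (i2 ψ) * res π (j3 ψ C) := by
  apply WithConv.ext
  apply AlgHom.ext
  intro a
  refine Eq.trans ?_ (mul_res_apply π (push (Phi2 ψ C) (i2 ψ)) (j3 ψ C) a).symm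
  change (1 : A) ⊗ₜ[rangeSub ψ] (rho π a) = _
  generalize rho π a = z
  induction z with
  | zero => rw [TensorProduct.tmul_zero, map_zero]
  | add x y hx hy => rw [TensorProduct.tmul_add, hx, hy, map_add]
  | tmul x y =>
    rw [pair_tmul, j3_apply]
    change _ = ((1 : A) ⊗ₜ[rangeSub ψ] (x ⊗ₜ[k] (1 : C))) * ((1 : A) ⊗ₜ[rangeSub ψ] ((1 : A) ⊗ₜ[k] y))
    rw [Algebra.TensorProduct.tmul_mul_tmul, Algebra.TensorProduct.tmul_mul_tmul, mul_one, mul_one, one_mul]

theorem convMul_prim {D : Type v} [CommRing D] [Algebra k D] (x y : WithConv (C →ₐ[k] D)) {f : C}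
    (hf : Coalgebra.comul (R := k) f = f ⊗ₜ[k] (1 : C) + (1 : C) ⊗ₜ[k] f) :
    (x * y).ofConv f = x.ofConv f + y.ofConv f := by
  refine (AlgHom.convMul_apply x y f).trans ?_
  rw [hf, map_add, Algebra.TensorProduct.lift_tmul, Algebra.TensorProduct.lift_tmul, map_one, map_one, mul_one,
    one_mul]

/-- Additive functions on the kernel lift to additive functions along the kernel. -/
theorem exists_lift (h : Ext ψ π) {f : C} (hf : Coalgebra.comul (R := k) f = f ⊗ₜ[k] (1 : C) + (1 : C) ⊗ₜ[k] f) :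
    ∃ a : A, rho π a = a ⊗ₜ[k] (1 : C) + (1 : A) ⊗ₜ[k] f := by
  obtain ⟨n, hn⟩ := h.exists_n
  have h1 : push h.Phi1 n = push (Phi2 ψ C) n * j3 ψ C := by
    apply res_injective h.surj
    have h2 : push h.Phi1 (i1 ψ) * res π (push h.Phi1 n) = push h.Phi1 (i2 ψ) := by
      rw [← hn, map_mul]
      rfl
    have h3 : push (Phi2 ψ C) (i1 ψ) * res π (push (Phi2 ψ C) n) = push (Phi2 ψ C) (i2 ψ) := by
      rw [← hn, map_mul]
      rfl
    rw [phi_i2, ← h3, phi_i1] at h2
    rw [map_mul]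
    have h4 := mul_assoc (push (Phi2 ψ C) (i1 ψ)) (res π (push (Phi2 ψ C) n)) (res π (j3 ψ C))
    exact conv_left_cancel _ _ _ (h2.trans h4)
  have h2 : h.d0.lTensor A (n.ofConv f) = (1 : A) ⊗ₜ[rangeSub ψ] ((1 : A) ⊗ₜ[k] f) := by
    rw [lTensor_d0, sub_eq_iff_eq_add]
    have h3 := congrArg (fun x : WithConv (C →ₐ[k] A ⊗[rangeSub ψ] (A ⊗[k] C)) => x.ofConv f) h1
    refine Eq.trans h3 ((convMul_prim _ _ hf).trans ?_)
    rw [j3_apply, add_comm]
    rfl
  have h3 := h.ff
  have h4 : (LinearMap.range h.d0).mkQ ((1 : A) ⊗ₜ[k] f) = 0 := by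
    apply Module.FaithfullyFlat.tensorProduct_mk_injective (A := rangeSub ψ) (B := A)
    rw [map_zero, TensorProduct.mk_apply]
    have h5 := congrArg ((LinearMap.range h.d0).mkQ.lTensor A) h2
    rw [LinearMap.lTensor_tmul] at h5
    rw [← h5, ← LinearMap.comp_apply, ← LinearMap.lTensor_comp]
    have h6 : (LinearMap.range h.d0).mkQ ∘ₗ h.d0 = 0 := by
      ext a
      simp
    rw [h6, LinearMap.lTensor_zero, LinearMap.zero_apply]
  rw [Submodule.mkQ_apply, Submodule.Quotient.mk_eq_zero] at h4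
  obtain ⟨a, ha⟩ := h4
  refine ⟨a, ?_⟩
  rw [d0_apply, sub_eq_iff_eq_add] at ha
  rw [ha, add_comm]

theorem lTensor_rho_comul (a : A) : (rho π).toLinearMap.lTensor A (Coalgebra.comul (R := k) a) =
    TensorProduct.assoc k A A C ((Coalgebra.comul (R := k) (A := A)).rTensor C (rho π a)) := by
  have h1 := Coalgebra.coassoc_apply (R := k) a
  have h2 : ∀ z : A ⊗[k] A, (rho π).toLinearMap.lTensor A z =
      ((π : A →ₐ[k] C).toLinearMap.lTensor A).lTensor A ((Coalgebra.comul (R := k) (A := A)).lTensor A z) := by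
    intro z
    induction z with
    | zero => simp
    | add x y hx hy => simp only [map_add, hx, hy]
    | tmul x y => rfl
  have h3 : ∀ z : A ⊗[k] A, ((π : A →ₐ[k] C).toLinearMap.lTensor A).lTensor A
      (TensorProduct.assoc k A A A ((Coalgebra.comul (R := k) (A := A)).rTensor A z)) =
      TensorProduct.assoc k A A C ((Coalgebra.comul (R := k) (A := A)).rTensor C
        ((π : A →ₐ[k] C).toLinearMap.lTensor A z)) := by
    intro z
    induction z with
    | zero => simp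
    | add x y hx hy => simp only [map_add, hx, hy]
    | tmul x y =>
      rw [LinearMap.rTensor_tmul, LinearMap.lTensor_tmul, LinearMap.rTensor_tmul]
      generalize Coalgebra.comul (R := k) x = t
      induction t with
      | zero => simp
      | add u v hu hv => simp only [TensorProduct.add_tmul, map_add, hu, hv]
      | tmul u v => rfl
  rw [h2, ← h1, h3]
  rfl

/-- For `a` additive along the kernel, `Δ a - 1 ⊗ a` lies in `A ⊗ ψ(B)`. -/
theorem comul_sub_mem (h : Ext ψ π) {a : A} (ha : rho π a = a ⊗ₜ[k] (1 : C) + (1 : A) ⊗ₜ[k] π a) :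
    Coalgebra.comul (R := k) a - (1 : A) ⊗ₜ[k] a ∈ LinearMap.range ((ψ : B →ₐ[k] A).toLinearMap.lTensor A) := by
  have hex : Function.Exact (ψ : B →ₐ[k] A).toLinearMap
      ((rho π).toLinearMap - (Algebra.TensorProduct.includeLeft : A →ₐ[k] A ⊗[k] C).toLinearMap) := by
    intro x
    rw [LinearMap.sub_apply, sub_eq_zero]
    exact h.rho_eq_iff x
  have h1 := Module.Flat.lTensor_exact (R := k) A hex
  refine (h1 _).1 ?_
  rw [LinearMap.lTensor_sub, LinearMap.sub_apply, map_sub, map_sub, lTensor_rho_comul, LinearMap.lTensor_tmul]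
  have h2 : (rho π).toLinearMap a = a ⊗ₜ[k] (1 : C) + (1 : A) ⊗ₜ[k] π a := ha
  rw [h2, ha, map_add, map_add, LinearMap.rTensor_tmul, LinearMap.rTensor_tmul, Bialgebra.comul_one,
    TensorProduct.tmul_add, LinearMap.lTensor_tmul]
  have h3 : ∀ z : A ⊗[k] A, TensorProduct.assoc k A A C (z ⊗ₜ[k] (1 : C)) =
      (Algebra.TensorProduct.includeLeft : A →ₐ[k] A ⊗[k] C).toLinearMap.lTensor A z := by
    intro z
    induction z with
    | zero => simp
    | add x y hx hy => simp only [TensorProduct.add_tmul, map_add, hx, hy]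
    | tmul x y => rfl
  rw [h3, Algebra.TensorProduct.one_def, TensorProduct.assoc_tmul]
  change _ + _ - (_ + _) - (_ - (1 : A) ⊗ₜ[k] (a ⊗ₜ[k] (1 : C))) = 0
  abel

end Lift

end Ext

end K503.Frame
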