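import Groth.Agent.SGA3.K503.Steps2
import Groth.Agent.SGA3.K503.Cut
import Groth.Agent.SGA3.K507.PrimPBW
import Groth.Agent.Sga3.H793.UnipPart
import Groth.Agent.Sga3.H808.Retract

/-!
# Hopf ideals cutting an extension

* `Good ψ π r W` : a nonzero space `W` of functions on an extension which are additive along the kernel, stable under the
  base, closed under `p`-th powers, meeting the base trivially, killed by `r`;
* `Good.hopf` : it generates a Hopf ideal; `Good.cut` : this ideal meets `ψ(B)` trivially;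
* `quotExt` : the extension defined by a Hopf ideal meeting `ψ(B)` trivially;
* `surjective_of_top` : the extension is trivial if the unipotent kernel has no additive function.
-/

set_option autoImplicit false

universe u

open TensorProduct WithConv HopfRep

namespace K503.GoodSp

open Groth.Agent.Books.NormalKer Groth.Agent.Books.CoidealFlat Groth.Agent.Books.ComodBasic
open Groth.Agent.Books.ComodHom K503.Frame K503.CrMod K503.CrLin K503.CrPow K503.Steps K503.Cut

variable {k : Type u} [Field k] {A B C E : Type u} [CommRing A] [HopfAlgebra k A]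
  [CommRing B] [HopfAlgebra k B] [CommRing C] [HopfAlgebra k C] [CommRing E] [HopfAlgebra k E]

/-- good spaces of additive functions -/
structure Good (ψ : B →ₐc[k] A) (π : A →ₐc[k] C) (r : A →ₐc[k] E) (W : Submodule k A) : Prop where
  le : W ≤ P π
  ne : W ≠ ⊥
  stab : ∀ w ∈ W, D k A w ∈ LinearMap.range (TensorProduct.map W.subtype (ψ : B →ₐ[k] A).toLinearMap)
  inj : ∀ w ∈ W, π w = 0 → w = 0
  frob : ∀ p : ℕ, p.Prime → CharP k p → ∀ w ∈ W, w ^ p ∈ W
  kill : ∀ w ∈ W, r w = 0

variable {ψ : B →ₐc[k] A} {π : A →ₐc[k] C}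

/-- stable spaces of functions with zero counit generate Hopf ideals -/
theorem isHopfIdeal_span (W : Submodule k A) (h0 : ∀ w ∈ W, Coalgebra.counit (R := k) w = 0)
    (hst : ∀ w ∈ W, D k A w ∈ LinearMap.range (TensorProduct.map W.subtype (ψ : B →ₐ[k] A).toLinearMap)) :
    (Ideal.span (W : Set A)).IsHopfIdeal k := by
  refine Groth.Agent.Sga3.H808.Cut.isHopfIdeal_span_of _ h0 ?_ ?_
  · intro s hs
    have h1 : Coalgebra.comul (R := k) s = (1 : A) ⊗ₜ[k] s + D k A s := by
      rw [D_apply]; abel
    obtain ⟨z, hz⟩ := hst s hs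
    have hmk : ∀ w ∈ W, Ideal.Quotient.mkₐ k (Ideal.span (W : Set A)) w = 0 := fun w hw =>
      Ideal.Quotient.eq_zero_iff_mem.2 (Ideal.subset_span hw)
    refine (congrArg _ h1).trans ?_
    rw [map_add, Algebra.TensorProduct.map_tmul, hmk s hs, TensorProduct.tmul_zero, zero_add, ← hz]
    clear hz h1
    induction z with
    | zero => rw [map_zero, map_zero]
    | add x y hx hy => rw [map_add, map_add, hx, hy, add_zero]
    | tmul x y =>
      rw [TensorProduct.map_tmul, Algebra.TensorProduct.map_tmul]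
      have h2 := hmk x x.2
      rw [Submodule.subtype_apply, h2, TensorProduct.zero_tmul]
  · intro s hs
    have h1 : Coalgebra.comul (R := k) s = (1 : A) ⊗ₜ[k] s + D k A s := by
      rw [D_apply]; abel
    obtain ⟨z, hz⟩ := hst s hs
    have h2 := HopfAlgebra.mul_antipode_lTensor_comul_apply (R := k) s
    rw [h1, map_add, LinearMap.lTensor_tmul, map_add, LinearMap.mul'_apply, one_mul, h0 s hs, map_zero] at h2
    rw [eq_neg_of_add_eq_zero_left h2]
    apply neg_mem
    rw [← hz]
    clear hz h1 h2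
    induction z with
    | zero => rw [map_zero, map_zero, map_zero]; exact zero_mem _
    | add x y hx hy => rw [map_add, map_add, map_add]; exact add_mem hx hy
    | tmul x y =>
      rw [TensorProduct.map_tmul, LinearMap.lTensor_tmul, LinearMap.mul'_apply]
      exact Ideal.mul_mem_right _ _ (Ideal.subset_span x.2)

namespace Good

variable {r : A →ₐc[k] E} {W : Submodule k A}

theorem hopf (hW : Good ψ π r W) : (Ideal.span (W : Set A)).IsHopfIdeal k :=
  isHopfIdeal_span W (fun _ hw => counit_of_mem (hW.le hw)) hW.stab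

theorem cut (hW : Good ψ π r W) (h : Ext ψ π) {b : B} (hb : ψ b ∈ Ideal.span (W : Set A)) : b = 0 := by
  refine K503.Cut.cut h W hW.le ?_ hb
  exact K507.PrimPBW.injOn_adjoin k A C (π : A →ₐ[k] C) W (fun a ha => prim_of_mem (hW.le ha)) hW.inj hW.frob

end Good

/-- subcomodules give stable spaces -/
theorem stab_of_sub [c : Comod k B (P π)]
    (hc : ∀ a : P π, incl ψ π (Comod.coact (k := k) (A := B) a) = D k A (a : A))
    (W : Submodule k (P π)) (hW : IsSubcomod (k := k) (A := B) W) :
    ∀ w ∈ W.map (P π).subtype, D k A w ∈ LinearMap.range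
      (TensorProduct.map (W.map (P π).subtype).subtype (ψ : B →ₐ[k] A).toLinearMap) := by
  rintro _ ⟨w, hw, rfl⟩
  obtain ⟨z, hz⟩ := hW w hw
  let f : W →ₗ[k] (W.map (P π).subtype) := (P π).subtype.submoduleMap W
  refine ⟨TensorProduct.map f LinearMap.id z, ?_⟩
  have h1 : D k A ((P π).subtype w) = incl ψ π (W.subtype.rTensor B z) := by
    rw [hz, hc]
    rfl
  rw [h1]
  clear hz h1
  induction z with
  | zero => simp
  | add x y hx hy => simp only [map_add, hx, hy]
  | tmul x y => rfl

theorem good_of_goodP (p : ℕ) [Fact p.Prime] [CharP k p] [c : Comod k B (P π)]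
    (hc : ∀ a : P π, incl ψ π (Comod.coact (k := k) (A := B) a) = D k A (a : A)) {r : A →ₐc[k] E}
    {W : Submodule k (P π)} (hW : GoodP (B := B) p r W) : Good ψ π r (W.map (P π).subtype) where
  le := by
    rintro _ ⟨w, -, rfl⟩
    exact w.2
  ne := by
    intro h0
    apply hW.ne
    rw [eq_bot_iff]
    intro w hw
    have h1 : (w : A) ∈ W.map (P π).subtype := ⟨w, hw, rfl⟩
    rw [h0, Submodule.mem_bot] at h1
    exact Subtype.ext h1
  stab := stab_of_sub hc W hW.sub
  inj := by
    rintro _ ⟨w, hw, rfl⟩ h0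
    have h1 := hW.disj w hw h0
    rw [h1]
    rfl
  frob := by
    intro p' hp' hcp w hw
    obtain ⟨w, hw, rfl⟩ := hw
    have h1 : p' = p := CharP.eq k hcp ‹CharP k p›
    subst h1
    refine ⟨F p' 1 w, hW.frob w hw, ?_⟩
    change (F p' 1 w : A) = (w : A) ^ p'
    rw [coe_F, pow_one]
  kill := by
    rintro _ ⟨w, hw, rfl⟩
    exact hW.kill w hw

theorem good_charZero [CharZero k] [c : Comod k B (P π)]
    (hc : ∀ a : P π, incl ψ π (Comod.coact (k := k) (A := B) a) = D k A (a : A)) {r : A →ₐc[k] E}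
    {X : Submodule k (P π)} (hX : IsSubcomod (k := k) (A := B) X) (hXc : IsCompl (I0 π) X) (hXr : ∀ x ∈ X, r (x : A) = 0)
    (hne : I0 π ≠ ⊤) : Good ψ π r (X.map (P π).subtype) where
  le := by
    rintro _ ⟨w, -, rfl⟩
    exact w.2
  ne := by
    intro h0
    apply hne
    have h1 : X = ⊥ := by
      rw [eq_bot_iff]
      intro w hw
      have h1 : (w : A) ∈ X.map (P π).subtype := ⟨w, hw, rfl⟩
      rw [h0, Submodule.mem_bot] at h1
      exact Subtype.ext h1
    have h2 := hXc.sup_eq_top
    rwa [h1, sup_bot_eq] at h2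
  stab := stab_of_sub hc X hX
  inj := by
    rintro _ ⟨w, hw, rfl⟩ h0
    have h1 := eq_zero_of_mem hXc hw h0
    rw [h1]
    rfl
  frob := by
    intro p' hp' hcp
    exact absurd (CharP.eq k hcp (CharP.ofCharZero k)) hp'.ne_zero
  kill := by
    rintro _ ⟨w, hw, rfl⟩
    exact hXr w hw

/-- **Existence of good spaces over a perfect field.** -/
theorem exists_good [PerfectField k] [IsNoetherianRing B] (h : Ext ψ π) (μ : B →ₗ[k] k) (hμ1 : μ 1 = 1)
    (hμ : ∀ e, μ.rTensor B (Coalgebra.comul (R := k) e) = μ e ⊗ₜ[k] (1 : B))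
    (r : A →ₐc[k] E) (q : B →ₐc[k] E) (hrq : ∀ b, r (ψ b) = q b) [IsReduced E]
    (μ' : E →ₗ[k] k) (hμ'1 : μ' 1 = 1)
    (hμ' : ∀ e, μ'.rTensor E (Coalgebra.comul (R := k) e) = μ' e ⊗ₜ[k] (1 : E))
    (hq : ∀ p : ℕ, p.Prime → CharP k p → ∀ b : B, (∀ n : ℕ, ∃ d : B, d ^ p ^ n = b) → q b = 0 → b = 0)
    (hne : ¬ ∀ a ∈ P π, π a = 0) : ∃ W : Submodule k A, Good ψ π r W := by
  let _ := comodP h
  have hc : ∀ a : P π, incl ψ π (Comod.coact (k := k) (A := B) a) = D k A (a : A) := incl_coactP h
  have hss : IsSemisimpleComod k B (P π) := K191.Integral.semisimple_of_isInt (α := μ) hμ hμ1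
  have hne' : I0 π ≠ ⊤ := by
    intro h0
    apply hne
    intro a ha
    have h1 : (⟨a, ha⟩ : P π) ∈ I0 π := by rw [h0]; trivial
    exact h1
  rcases CharP.exists k with ⟨p, hp⟩
  rcases CharP.char_is_prime_or_zero k p with hpr | h0
  · have : Fact p.Prime := ⟨hpr⟩
    obtain ⟨W, hW⟩ := exists_goodP p h hc hss μ hμ1 hμ r q hrq μ' hμ'1 hμ' (hq p hpr hp) hne'
    exact ⟨_, good_of_goodP p hc hW⟩
  · subst h0
    have : CharZero k := CharP.charP_to_charZero k
    obtain ⟨X, hX, hXc, hrX⟩ := exists_compl h hc hss r q hrq μ' hμ'1 hμ'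
    exact ⟨_, good_charZero hc hX hXc hrX hne'⟩

section unip

open Groth.Agent.Sga3A.ComodUnip Groth.Agent.Sga3.H793.UnipPart

lemma eq_const_of_mem_soc_one {c : C} (hc : c ∈ soc k C C 1) :
    c = algebraMap k C (CoalgebraStruct.counit (R := k) c) := by
  rw [mem_soc_succ_iff] at hc
  obtain ⟨z, hz⟩ := hc
  have h0 : (soc k C C 0).subtype = 0 := by
    ext x
    exact (mem_soc_zero _).mp x.2
  rw [h0, LinearMap.rTensor_zero, LinearMap.zero_apply] at hz
  have h1 := congrArg (fun z => TensorProduct.lid k C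
      (LinearMap.rTensor C (CoalgebraStruct.counit (R := k) (A := C)) z)) (sub_eq_zero.mp hz.symm)
  simp only [Coalgebra.rTensor_counit_comul, LinearMap.rTensor_tmul, TensorProduct.lid_tmul,
    one_smul] at h1
  rw [Algebra.algebraMap_eq_smul_one]
  exact h1

lemma exists_prim_of_mem_soc_two {p : C} (hp : p ∈ soc k C C 2) :
    CoalgebraStruct.comul (R := k) (p - algebraMap k C (CoalgebraStruct.counit (R := k) p)) =
      (p - algebraMap k C (CoalgebraStruct.counit (R := k) p)) ⊗ₜ 1 +
      1 ⊗ₜ (p - algebraMap k C (CoalgebraStruct.counit (R := k) p)) := by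
  rw [mem_soc_succ_iff] at hp
  obtain ⟨z, hz⟩ := hp
  have h1 : ∀ z : (soc k C C 1) ⊗[k] C, ∃ q : C,
      LinearMap.rTensor C (soc k C C 1).subtype z = 1 ⊗ₜ q := by
    intro z
    induction z with
    | zero => exact ⟨0, by simp⟩
    | add x y hx hy =>
      obtain ⟨a, ha⟩ := hx
      obtain ⟨b, hb⟩ := hy
      exact ⟨a + b, by rw [map_add, ha, hb, TensorProduct.tmul_add]⟩
    | tmul x y =>
      refine ⟨CoalgebraStruct.counit (R := k) (x : C) • y, ?_⟩
      rw [LinearMap.rTensor_tmul]
      change (x : C) ⊗ₜ y = _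
      conv_lhs => rw [eq_const_of_mem_soc_one x.2, Algebra.algebraMap_eq_smul_one]
      rw [TensorProduct.smul_tmul]
  obtain ⟨q, hq⟩ := h1 z
  rw [hq, eq_sub_iff_add_eq] at hz
  have h2 := congrArg (fun z => TensorProduct.lid k C
      (LinearMap.rTensor C (CoalgebraStruct.counit (R := k) (A := C)) z)) hz
  simp only [Coalgebra.rTensor_counit_comul, LinearMap.rTensor_tmul, TensorProduct.lid_tmul,
    one_smul, map_add, Bialgebra.counit_one] at h2
  have h3 : q = p - algebraMap k C (CoalgebraStruct.counit (R := k) p) := by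
    rw [eq_sub_iff_add_eq, Algebra.algebraMap_eq_smul_one]
    exact h2
  rw [map_sub, ← hz, ← h3, Algebra.algebraMap_eq_smul_one, map_smul, Bialgebra.comul_one,
    Algebra.TensorProduct.one_def, h3, Algebra.algebraMap_eq_smul_one, TensorProduct.sub_tmul,
    TensorProduct.tmul_sub, ← TensorProduct.smul_tmul', TensorProduct.tmul_smul]
  abel

/-- a unipotent Hopf algebra without primitive elements is trivial -/
theorem eq_const_of_prim (hU : HopfRep.IsUnipotent k C)
    (h : ∀ f : C, Coalgebra.comul (R := k) f = f ⊗ₜ[k] (1 : C) + (1 : C) ⊗ₜ[k] f → f = 0) (x : C) :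
    x = algebraMap k C (Coalgebra.counit (R := k) x) := by
  have key : ∀ n : ℕ, soc k C C n ≤ soc k C C 1 := by
    intro n
    induction n with
    | zero =>
      intro x hx
      rw [(mem_soc_zero x).mp hx]
      exact zero_mem _
    | succ n ih =>
      intro x hx
      have h2 : x ∈ soc k C C 2 := by
        rw [mem_soc_succ_iff] at hx ⊢
        obtain ⟨z, hz⟩ := hx
        refine ⟨(Submodule.inclusion ih).rTensor C z, ?_⟩
        rw [← hz]
        rw [← LinearMap.comp_apply, ← LinearMap.rTensor_comp]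
        rfl
      have h3 := h _ (exists_prim_of_mem_soc_two h2)
      rw [sub_eq_zero] at h3
      rw [h3, Algebra.algebraMap_eq_smul_one]
      apply Submodule.smul_mem
      rw [mem_soc_succ_iff, Bialgebra.comul_one, Algebra.TensorProduct.one_def, sub_self]
      exact zero_mem _
  obtain ⟨n, hn⟩ := exists_mem_soc (k := k) (A := C) hU x
  exact eq_const_of_mem_soc_one (key n hn)

/-- an extension whose kernel has no additive functions is trivial -/
theorem surjective_of_top (h : Ext ψ π) (hU : HopfRep.IsUnipotent k C) (htop : ∀ a ∈ P π, π a = 0) :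
    Function.Surjective ψ := by
  intro a
  have h1 : ∀ x : C, x = algebraMap k C (Coalgebra.counit (R := k) x) := by
    refine eq_const_of_prim hU fun f hf => ?_
    obtain ⟨a, ha, rfl⟩ := exists_mem_P h hf
    exact htop a ha
  have h2 : rho π a = a ⊗ₜ[k] (1 : C) := by
    rw [rho_apply]
    have h3 := Coalgebra.lTensor_counit_comul (R := k) a
    have h4 : ∀ z : A ⊗[k] A, (π : A →ₐ[k] C).toLinearMap.lTensor A z =
        ((Algebra.linearMap k C) ).lTensor A ((Coalgebra.counit (R := k) (A := A)).lTensor A z) := by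
      intro z
      induction z with
      | zero => simp
      | add x y hx hy => simp only [map_add, hx, hy]
      | tmul x y =>
        rw [LinearMap.lTensor_tmul, LinearMap.lTensor_tmul, LinearMap.lTensor_tmul]
        congr 1
        refine (h1 (π y)).trans ?_
        rw [CoalgHomClass.counit_comp_apply]
        rfl
    rw [h4, h3, LinearMap.lTensor_tmul]
    congr 1
    exact map_one (algebraMap k C)
  exact (h.rho_eq_iff a).1 h2

end unip

end K503.GoodSp
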