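import Groth.Agent.SGA3.K503.Good
import Groth.Agent.SGA3.K503.QuotExt

/-!
# Extensions of groups of multiplicative type by unipotent groups over perfect fields

`exists_retraction` : relative splitting. Given a homomorphism `r : A → E` (a section over a subgroup `Spec E` of `Spec B`)
there is a retraction `s : A → B` with `q ∘ s = r`, if an element of `B` which is a `p ^ n`-th power for all `n` and is killed
by `q` vanishes.
-/

set_option autoImplicit false

universe u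

open TensorProduct WithConv HopfRep

namespace K503.Perf

open K503.Frame K503.CrMod K503.GoodSp K503.QuotExt

variable {k : Type u} [Field k] {A B C E : Type u} [CommRing A] [HopfAlgebra k A]
  [CommRing B] [HopfAlgebra k B] [CommRing C] [HopfAlgebra k C] [CommRing E] [HopfAlgebra k E]

theorem isHopfIdeal_bot : (⊥ : Ideal A).IsHopfIdeal k := by
  have h1 : (⊥ : Ideal A) = Ideal.span ∅ := by simp
  rw [h1]
  exact Groth.Agent.Sga3.H808.Cut.isHopfIdeal_span_of ∅ (fun s hs => absurd hs (Set.notMem_empty s))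
    (fun s hs => absurd hs (Set.notMem_empty s)) (fun s hs => absurd hs (Set.notMem_empty s))

/-- the preimage of a Hopf ideal of a quotient -/
theorem exists_comap (I : Ideal A) [I.IsHopfIdeal k] (L : Ideal (A ⧸ I)) [L.IsHopfIdeal k] :
    ∃ I' : Ideal A, I'.IsHopfIdeal k ∧ (∀ a, a ∈ I' ↔ Ideal.Quotient.mk I a ∈ L) := by
  let mkL : (A ⧸ I) →ₐc[k] ((A ⧸ I) ⧸ L) := Bialgebra.Quotient.mkBialgHom (R := k) L
  let mkI : A →ₐc[k] (A ⧸ I) := Bialgebra.Quotient.mkBialgHom (R := k) I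
  refine ⟨Groth.Agent.MiscA.HopfRange.kerI (mkL.comp mkI), inferInstance, fun a => ?_⟩
  rw [← Ideal.Quotient.eq_zero_iff_mem (I := L)]
  rfl

/-- **Relative splitting over a perfect field.** -/
theorem exists_retraction [PerfectField k] [IsNoetherianRing A] [IsNoetherianRing B]
    {ψ : B →ₐc[k] A} {π : A →ₐc[k] C} (h : Ext ψ π)
    (hU : HopfRep.IsUnipotent k C) (μ : B →ₗ[k] k) (hμ1 : μ 1 = 1)
    (hμ : ∀ e, μ.rTensor B (Coalgebra.comul (R := k) e) = μ e ⊗ₜ[k] (1 : B))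
    (r : A →ₐc[k] E) (q : B →ₐc[k] E) (hrq : ∀ b, r (ψ b) = q b) [IsReduced E]
    (μ' : E →ₗ[k] k) (hμ'1 : μ' 1 = 1)
    (hμ' : ∀ e, μ'.rTensor E (Coalgebra.comul (R := k) e) = μ' e ⊗ₜ[k] (1 : E))
    (hq : ∀ p : ℕ, p.Prime → CharP k p → ∀ b : B, (∀ n : ℕ, ∃ d : B, d ^ p ^ n = b) → q b = 0 → b = 0) :
    ∃ s : A →ₐc[k] B, s.comp ψ = BialgHom.id k B ∧ ∀ a, q (s a) = r a := by
  let S : Set (Ideal A) := {I | I.IsHopfIdeal k ∧ (∀ b, ψ b ∈ I → b = 0) ∧ ∀ a ∈ I, r a = 0}
  have hS : S.Nonempty := by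
    refine ⟨⊥, isHopfIdeal_bot, ?_, ?_⟩
    · intro b hb
      apply h.inj
      exact hb.trans (map_zero (ψ : B →ₐ[k] A)).symm
    · intro a ha
      rw [Ideal.mem_bot] at ha
      rw [ha]
      exact map_zero (r : A →ₐ[k] E)
  obtain ⟨I, ⟨hI, hI0, hIr⟩, hmax⟩ := set_has_maximal_iff_noetherian.2
    (inferInstance : IsNoetherian A A) S hS
  have hK := isHopfIdeal_kerI (psiQ ψ I)
  have h' := ext_kerI (psiQ ψ I) (psiQ_injective ψ I hI0)
  have hU' := isUnipotent_quot ψ I h hU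
  have hs : Function.Surjective (psiQ ψ I) := by
    apply surjective_of_top h' hU'
    by_contra hne
    let r' : (A ⧸ I) →ₐc[k] E := Groth.Agent.Books.NormalKer.liftBialg I r hIr
    obtain ⟨W, hW⟩ := exists_good h' μ hμ1 hμ r' q (fun b => hrq b) μ' hμ'1 hμ' hq hne
    have hWh := hW.hopf
    obtain ⟨I', hI', hmem⟩ := exists_comap (k := k) I (Ideal.span (W : Set (A ⧸ I)))
    refine hmax I' ⟨hI', ?_, ?_⟩ ?_
    · intro b hb
      rw [hmem] at hb
      exact hW.cut h' (b := b) hb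
    · intro a ha
      rw [hmem] at ha
      have h1 : Ideal.span (W : Set (A ⧸ I)) ≤ RingHom.ker (r' : (A ⧸ I) →ₐ[k] E) :=
        Ideal.span_le.2 hW.kill
      exact h1 ha
    · refine lt_of_le_of_ne ?_ ?_
      · intro a ha
        rw [hmem, Ideal.Quotient.eq_zero_iff_mem.2 ha]
        exact Ideal.zero_mem _
      · intro heq
        obtain ⟨w, hw, hw0⟩ := (Submodule.ne_bot_iff W).1 hW.ne
        obtain ⟨a, rfl⟩ := Ideal.Quotient.mk_surjective w
        have h1 : a ∈ I' := (hmem a).2 (Ideal.subset_span hw)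
        rw [← heq] at h1
        exact hw0 (Ideal.Quotient.eq_zero_iff_mem.2 h1)
  obtain ⟨s, hs1, hs2⟩ := exists_retraction_of_surjective ψ I hI0 hs
  refine ⟨s, hs1, fun a => ?_⟩
  have h1 : a - ψ (s a) ∈ I := by
    rw [← hs2]
    have h2 : s (a - ψ (s a)) = s a - s (ψ (s a)) := map_sub (s : A →ₐ[k] B) _ _
    have h3 : s (ψ (s a)) = s a := DFunLike.congr_fun hs1 (s a)
    rw [h2, h3, sub_self]
  have h2 := hIr _ h1
  have h3 : r (a - ψ (s a)) = r a - r (ψ (s a)) := map_sub (r : A →ₐ[k] E) _ _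
  rw [h3, hrq, sub_eq_zero] at h2
  exact h2.symm

end K503.Perf
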