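import Groth.Agent.SGA3.K503.CrPow

/-!
# Stable spaces of additive functions on an extension (perfect fields)

`GoodP r Wp` : `Wp` is a nonzero subcomodule of `P π`, closed under `p`-th powers, meeting `ψ(B⁺)` trivially and killed by `r`.
`exists_goodP` : over a perfect field of characteristic `p` such a subspace exists if the kernel has a nonzero additive
function, provided that an element of `B` which is a `p ^ n`-th power for all `n` and is killed by `q` is zero.
-/

set_option autoImplicit false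

universe u v

open TensorProduct WithConv HopfRep

namespace K503.Steps

open Groth.Agent.Books.NormalKer Groth.Agent.Books.CoidealFlat Groth.Agent.Books.ComodBasic
open Groth.Agent.Books.ComodHom K503.Frame K503.CrMod K503.CrLin K503.CrPow

variable {k : Type u} [Field k] {A B C E : Type v} [CommRing A] [HopfAlgebra k A]
  [CommRing B] [HopfAlgebra k B] [CommRing C] [HopfAlgebra k C] [CommRing E] [HopfAlgebra k E]
  {ψ : B →ₐc[k] A} {π : A →ₐc[k] C} [c : Comod k B (P π)]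

/-- stable spaces of additive functions (characteristic `p`) -/
structure GoodP (p : ℕ) [Fact p.Prime] [CharP k p] (r : A →ₐc[k] E) (W : Submodule k (P π)) : Prop where
  sub : IsSubcomod (k := k) (A := B) W
  ne : W ≠ ⊥
  disj : ∀ w ∈ W, w ∈ I0 π → w = 0
  frob : ∀ w ∈ W, F p 1 w ∈ W
  kill : ∀ w ∈ W, r (w : A) = 0

variable (p : ℕ) [Fact p.Prime] [CharP k p]

theorem add_psi_pow (lam : P π →ₗ[k] k) (t : P π) :
    ((t : A) + ψ (dl lam t)) ^ p = (t : A) ^ p + ψ (dl lam t ^ p) := by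
  have h1 := add_pow' k p 1 (t : A) (ψ (dl lam t))
  rw [pow_one] at h1
  rw [h1]
  congr 1
  exact (map_pow (ψ : B →ₐ[k] A) _ _).symm

/-- elements of `I0` in a complement vanish -/
theorem eq_zero_of_mem {X : Submodule k (P π)} (hXc : IsCompl (I0 π) X) {x : P π} (hx : x ∈ X)
    (hx0 : x ∈ I0 π) : x = 0 := by
  have h1 : x ∈ I0 π ⊓ X := ⟨hx0, hx⟩
  rwa [hXc.inf_eq_bot, Submodule.mem_bot] at h1

theorem exists_mem_inf {X Y : Submodule k (P π)} (hXc : IsCompl (I0 π) X) {y : P π} (hy : y ∈ Y ⊔ I0 π) :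
    ∃ x ∈ X ⊓ (Y ⊔ I0 π), y - x ∈ I0 π := by
  have ha : y ∈ I0 π ⊔ X := by rw [hXc.sup_eq_top]; trivial
  obtain ⟨i, hi, x, hx, rfl⟩ := Submodule.mem_sup.1 ha
  refine ⟨x, ⟨hx, ?_⟩, by rwa [add_sub_cancel_right]⟩
  have h1 : x = (i + x) - i := by abel
  rw [h1]
  exact sub_mem hy (Submodule.mem_sup_right hi)

theorem inf_ne_bot {X Y : Submodule k (P π)} (hXc : IsCompl (I0 π) X) (hY : ¬ Y ≤ I0 π) :
    X ⊓ (Y ⊔ I0 π) ≠ ⊥ := by
  intro h
  apply hY
  intro y hy
  obtain ⟨x, hx, hyx⟩ := exists_mem_inf hXc (show y ∈ Y ⊔ I0 π from Submodule.mem_sup_left hy)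
  rw [h, Submodule.mem_bot] at hx
  rwa [hx, sub_zero] at hyx

/-- **Step alpha.** -/
theorem alpha [PerfectField k] (h : Ext ψ π)
    (hc : ∀ a : P π, incl ψ π (Comod.coact (k := k) (A := B) a) = D k A (a : A))
    {X : Submodule k (P π)} (hX : IsSubcomod (k := k) (A := B) X) (hXc : IsCompl (I0 π) X)
    (θ : P π →ₗ[k] k) (hθ : ∀ a, twist h θ a ∈ X) (r : A →ₐc[k] E) [IsReduced E]
    (Y : Submodule k (P π)) (hY : IsSubcomod (k := k) (A := B) Y) (hYI : ¬ Y ≤ I0 π)
    (hYF : ∀ y ∈ Y, F p 1 y ∈ I0 π) : ∃ W : Submodule k (P π), GoodP (B := B) p r W := by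
  obtain ⟨lam, -, -, hl⟩ := exists_coeffMap_eq_pow p h hc 1 θ
  let T := X ⊓ (Y ⊔ I0 π)
  have hT : IsSubcomod (k := k) (A := B) T := IsSubcomod.inf hX (IsSubcomod.sup hY (isSubcomod_I0 h hc))
  have hTF : ∀ t ∈ T, F p 1 t ∈ I0 π := by
    rintro t ⟨-, ht⟩
    obtain ⟨y, hy, i, hi, rfl⟩ := Submodule.mem_sup.1 ht
    rw [map_add]
    exact add_mem (hYF y hy) (F_mem_I0 p 1 hi)
  have hpow : ∀ t ∈ T, ((twist h lam t : P π) : A) ^ p = 0 := by
    intro t ht
    rw [coe_twist, add_psi_pow]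
    have h1 : twist h θ (F p 1 t) = 0 := by
      apply eq_zero_of_mem hXc (hθ _)
      have h2 := add_mem (twist_sub_mem h θ (F p 1 t)) (hTF t ht)
      rwa [sub_add_cancel] at h2
    have h2 := congrArg (Subtype.val) h1
    rw [coe_twist, hl, coe_F, pow_one] at h2
    exact h2
  refine ⟨T.map (twist h lam), ?_, ?_, ?_, ?_, ?_⟩
  · exact (isComodHom_twist h hc lam).map hT
  · intro h0
    apply inf_ne_bot hXc hYI
    rw [eq_bot_iff]
    intro t ht
    have h1 : twist h lam t ∈ T.map (twist h lam) := Submodule.mem_map_of_mem ht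
    rw [h0, Submodule.mem_bot] at h1
    rw [Submodule.mem_bot]
    apply eq_zero_of_mem hXc ht.1
    have h2 := twist_sub_mem h lam t
    rw [h1, zero_sub] at h2
    exact neg_mem_iff.1 h2
  · rintro _ ⟨t, ht, rfl⟩ hw
    rw [mem_I0, pi_twist] at hw
    rw [eq_zero_of_mem hXc ht.1 hw, map_zero]
  · rintro _ ⟨t, ht, rfl⟩
    have h1 : F p 1 (twist h lam t) = 0 := by
      apply Subtype.ext
      rw [coe_F, pow_one, hpow t ht]
      rfl
    rw [h1]
    exact zero_mem _
  · rintro _ ⟨t, ht, rfl⟩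
    have h1 : r ((twist h lam t : P π) : A) ^ p = 0 := by
      have h2 : r ((twist h lam t : P π) : A) ^ p = r (((twist h lam t : P π) : A) ^ p) :=
        (map_pow (r : A →ₐ[k] E) _ _).symm
      rw [h2, hpow t ht]
      exact map_zero (r : A →ₐ[k] E)
    exact pow_eq_zero_iff (Fact.out : p.Prime).ne_zero |>.1 h1

/-- functions killed by Frobenius modulo the base form a subcomodule inside high powers -/
theorem dact_mem [PerfectField k] (h : Ext ψ π)
    (hc : ∀ a : P π, incl ψ π (Comod.coact (k := k) (A := B) a) = D k A (a : A)) (n : ℕ)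
    (hn : ∀ b : B, IsNilpotent b → b ^ p ^ n = 0) (φ : B →ₗ[k] k) (x : P π) (hx : F p 1 (F p n x) ∈ I0 π) :
    F p 1 (dact (P π) φ (F p n x)) ∈ I0 π := by
  rw [mem_I0]
  apply (Module.forall_dual_apply_eq_zero_iff k _).1
  intro ℓ
  let θ : P π →ₗ[k] k := ℓ ∘ₗ (π : A →ₐ[k] C).toLinearMap ∘ₗ (P π).subtype
  obtain ⟨lam, h1, h2, -⟩ := exists_coeffMap_eq_pow p h hc 1 θ
  obtain ⟨lam', -, h3, -⟩ := exists_coeffMap_eq_pow p h hc n lam
  have h4 : coeffMap B θ (F p 1 (F p n x)) = 0 := by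
    apply (Module.forall_dual_apply_eq_zero_iff k _).1
    intro φ'
    rw [apply_coeffMap]
    have h5 := (isSubcomod_iff_dact (I0 π)).1 (isSubcomod_I0 h hc) φ' _ hx
    change ℓ (π (dact (P π) φ' (F p 1 (F p n x)) : A)) = 0
    rw [mem_I0.1 h5, map_zero]
  have h5 : coeffMap B lam (F p n x) = 0 := by
    rw [h3]
    apply hn
    refine ⟨p ^ n * p ^ 1, ?_⟩
    rw [pow_mul, ← h3, ← h2, h4]
  have h6 : lam (dact (P π) φ (F p n x)) = 0 := by
    rw [← apply_coeffMap, h5, map_zero]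
  have h7 := h1 (dact (P π) φ (F p n x))
  rw [h6, zero_pow (pow_ne_zero _ (Fact.out : p.Prime).ne_zero)] at h7
  exact h7.symm

theorem Fr_zero (X : Submodule k (P π)) : Fr p 0 X = X := by
  rw [Fr]
  have h1 : F p 0 '' (X : Set (P π)) = X := by
    ext x
    constructor
    · rintro ⟨y, hy, rfl⟩
      rwa [F_zero]
    · intro hx
      exact ⟨x, hx, F_zero p x⟩
  rw [h1, Submodule.span_eq]

theorem F_mem_sup {Y Y' : Submodule k (P π)} (j : ℕ) (hF : ∀ y ∈ Y, F p j y ∈ Y' ⊔ I0 π) {x : P π} (hx : x ∈ Y ⊔ I0 π) :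
    F p j x ∈ Y' ⊔ I0 π := by
  obtain ⟨y, hy, i, hi, rfl⟩ := Submodule.mem_sup.1 hx
  rw [map_add]
  exact add_mem (hF y hy) (Submodule.mem_sup_right (F_mem_I0 p j hi))

/-- independence of the Frobenius powers of a space of generators -/
theorem indep {Y T N : Submodule k (P π)} (hYF : ∀ y ∈ Y, F p 1 y ∈ Y) (hN : ∀ y ∈ Y, F p 1 y ∈ N)
    (hNI : I0 π ≤ N) (hTY : T ≤ Y ⊔ I0 π) (hTN : ∀ t ∈ T, t ∈ N → t = 0)
    (hinj : ∀ y ∈ Y, F p 1 y ∈ I0 π → y ∈ I0 π) (n : ℕ) :
    ∀ t : ℕ → P π, (∀ i, t i ∈ T) → ∑ i ∈ Finset.range n, F p i (t i) ∈ I0 π → ∀ i < n, t i = 0 := by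
  induction n with
  | zero => intro t _ _ i hi; exact absurd hi (Nat.not_lt_zero i)
  | succ n ih =>
    intro t ht hs
    have hYI : ∀ j : ℕ, ∀ y ∈ Y, F p j y ∈ Y := by
      intro j
      induction j with
      | zero => intro y hy; rwa [F_zero]
      | succ j ihj =>
        intro y hy
        rw [add_comm, ← F_F]
        exact hYF _ (ihj y hy)
    rw [Finset.sum_range_succ', F_zero] at hs
    let y := ∑ i ∈ Finset.range n, F p i (t (i + 1))
    have h1 : ∑ i ∈ Finset.range n, F p (i + 1) (t (i + 1)) = F p 1 y := by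
      rw [map_sum]
      refine Finset.sum_congr rfl fun i _ => ?_
      rw [F_F, add_comm]
    have hy : y ∈ Y ⊔ I0 π := by
      refine sum_mem fun i _ => ?_
      exact F_mem_sup p i (fun z hz => Submodule.mem_sup_left (hYI i z hz)) (hTY (ht (i + 1)))
    obtain ⟨y', hy', i', hi', hyy⟩ := Submodule.mem_sup.1 hy
    rw [h1] at hs
    have h0 : t 0 = 0 := by
      apply hTN _ (ht 0)
      have h2 : t 0 = (F p 1 y + t 0) - F p 1 y := by abel
      rw [h2, ← hyy, map_add]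
      exact sub_mem (hNI (by rw [← map_add, hyy]; exact hs)) (add_mem (hN y' hy') (hNI (F_mem_I0 p 1 hi')))
    rw [h0, add_zero, ← hyy, map_add] at hs
    have h3 : y' ∈ I0 π := by
      apply hinj _ hy'
      have h4 := sub_mem hs (F_mem_I0 p 1 hi')
      rwa [add_sub_cancel_right] at h4
    have h5 : y ∈ I0 π := by rw [← hyy]; exact add_mem h3 hi'
    intro i hi
    rcases Nat.eq_zero_or_pos i with rfl | hpos
    · exact h0
    · obtain ⟨j, rfl⟩ := Nat.exists_eq_succ_of_ne_zero hpos.ne'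
      exact ih (fun i => t (i + 1)) (fun i => ht (i + 1)) h5 j (Nat.lt_of_succ_lt_succ hi)

/-- elements of the sum of the Frobenius powers over a perfect field -/
theorem exists_sum [PerfectField k] {T : Submodule k (P π)} {w : P π} (hw : w ∈ ⨆ i, Fr p i T) :
    ∃ (n : ℕ) (t : ℕ → P π), (∀ i, t i ∈ T) ∧ w = ∑ i ∈ Finset.range n, F p i (t i) := by
  have key : ∃ t : ℕ →₀ P π, (∀ i, t i ∈ T) ∧ w = t.sum (fun i x => F p i x) := by
    refine Submodule.iSup_induction (Fr p · T) (motive := fun w => ∃ t : ℕ →₀ P π, (∀ i, t i ∈ T) ∧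
      w = t.sum (fun i x => F p i x)) hw ?_ ?_ ?_
    · intro i x hx
      obtain ⟨y, hy, rfl⟩ := (mem_Fr_iff p i).1 hx
      classical
      refine ⟨Finsupp.single i y, fun j => ?_, ?_⟩
      · rw [Finsupp.single_apply]
        split_ifs
        · exact hy
        · exact zero_mem _
      · rw [Finsupp.sum_single_index (h := fun i x => F p i x) (map_zero _)]
    · exact ⟨0, fun i => zero_mem _, by simp⟩
    · rintro x y ⟨t, ht, rfl⟩ ⟨s, hs, rfl⟩
      classical
      refine ⟨t + s, fun i => add_mem (ht i) (hs i), ?_⟩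
      rw [Finsupp.sum_add_index' (h := fun i x => F p i x) (fun i => map_zero _) (fun i x y => map_add _ _ _)]
  obtain ⟨t, ht, rfl⟩ := key
  refine ⟨t.support.sup id + 1, t, ht, ?_⟩
  refine Finsupp.sum_of_support_subset t ?_ _ (fun i _ => map_zero _)
  intro i hi
  rw [Finset.mem_range, Nat.lt_succ_iff]
  exact Finset.le_sup (f := id) hi

theorem F_iSup_mem {T : Submodule k (P π)} {w : P π} (hw : w ∈ ⨆ i, Fr p i T) : F p 1 w ∈ ⨆ i, Fr p i T := by
  refine Submodule.iSup_induction (Fr p · T) (motive := fun w => F p 1 w ∈ ⨆ i, Fr p i T) hw ?_ ?_ ?_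
  · intro i x hx
    induction hx using Submodule.span_induction with
    | mem x hx =>
      obtain ⟨y, hy, rfl⟩ := hx
      rw [F_F]
      exact Submodule.mem_iSup_of_mem _ (F_mem_Fr p _ hy)
    | zero => rw [map_zero]; exact zero_mem _
    | add x y _ _ hx hy => rw [map_add]; exact add_mem hx hy
    | smul c x _ hx => rw [F_smul]; exact Submodule.smul_mem _ _ hx
  · rw [map_zero]; exact zero_mem _
  · intro x y hx hy; rw [map_add]; exact add_mem hx hy

/-- **Step gamma.** -/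
theorem gamma [PerfectField k] (h : Ext ψ π)
    (hc : ∀ a : P π, incl ψ π (Comod.coact (k := k) (A := B) a) = D k A (a : A))
    (hss : IsSemisimpleComod k B (P π))
    {X : Submodule k (P π)} (hX : IsSubcomod (k := k) (A := B) X) (hXc : IsCompl (I0 π) X)
    (r : A →ₐc[k] E) (hr : ∀ x ∈ X, r (x : A) = 0)
    (Y : Submodule k (P π)) (hY : IsSubcomod (k := k) (A := B) Y) (hYF : ∀ y ∈ Y, F p 1 y ∈ Y)
    (hYN : ¬ Y ≤ Fr p 1 Y ⊔ I0 π) (hinj : ∀ y ∈ Y, F p 1 y ∈ I0 π → y ∈ I0 π) :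
    ∃ W : Submodule k (P π), GoodP (B := B) p r W := by
  have hI := isSubcomod_I0 h hc
  set N := Fr p 1 Y ⊔ I0 π with hNdef
  have hN : IsSubcomod (k := k) (A := B) N := IsSubcomod.sup (isSubcomod_Fr p h hc 1 hY) hI
  have hFY : Fr p 1 Y ≤ Y := by
    rw [Fr, Submodule.span_le]
    rintro _ ⟨y, hy, rfl⟩
    exact hYF y hy
  obtain ⟨Z, hZ, hZc⟩ := hss N hN
  let T₀ := (Y ⊔ I0 π) ⊓ Z
  have hT₀ : IsSubcomod (k := k) (A := B) T₀ := IsSubcomod.inf (IsSubcomod.sup hY hI) hZ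
  have hT₀ne : T₀ ≠ ⊥ := by
    intro h0
    apply hYN
    intro y hy
    have hy1 : y ∈ N ⊔ Z := by rw [hZc.sup_eq_top]; trivial
    obtain ⟨n, hn, z, hz, rfl⟩ := Submodule.mem_sup.1 hy1
    have h1 : z ∈ T₀ := by
      refine ⟨?_, hz⟩
      have h2 : z = (n + z) - n := by abel
      rw [h2]
      refine sub_mem (Submodule.mem_sup_left hy) ?_
      exact (sup_le_sup_right hFY (I0 π)) hn
    rw [h0, Submodule.mem_bot] at h1
    rwa [h1, add_zero]
  let T := X ⊓ (T₀ ⊔ I0 π)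
  have hT : IsSubcomod (k := k) (A := B) T := IsSubcomod.inf hX (IsSubcomod.sup hT₀ hI)
  have hTY : T ≤ Y ⊔ I0 π := by
    rintro t ⟨-, ht⟩
    obtain ⟨y, hy, i, hi, rfl⟩ := Submodule.mem_sup.1 ht
    exact add_mem hy.1 (Submodule.mem_sup_right hi)
  have hTN : ∀ t ∈ T, t ∈ N → t = 0 := by
    rintro t ⟨htX, ht⟩ htN
    obtain ⟨y, hy, i, hi, rfl⟩ := Submodule.mem_sup.1 ht
    have h1 : y ∈ N ⊓ Z := by
      refine ⟨?_, hy.2⟩
      have h2 : y = (y + i) - i := by abel
      rw [h2]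
      exact sub_mem htN (Submodule.mem_sup_right hi)
    rw [hZc.inf_eq_bot, Submodule.mem_bot] at h1
    rw [h1, zero_add] at htX ⊢
    exact eq_zero_of_mem hXc htX hi
  have hTI : ∀ t ∈ T, t ∈ I0 π → t = 0 := fun t ht hti => hTN t ht (Submodule.mem_sup_right hti)
  have hind := indep p (T := T) hYF (fun y hy => Submodule.mem_sup_left (F_mem_Fr p 1 hy))
    (le_sup_right : I0 π ≤ N) hTY hTN hinj
  have hTne : T ≠ ⊥ := by
    apply inf_ne_bot hXc
    intro h0
    apply hT₀ne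
    rw [eq_bot_iff]
    intro t ht
    have h1 : t ∈ N ⊓ Z := ⟨Submodule.mem_sup_right (h0 ht), ht.2⟩
    rwa [hZc.inf_eq_bot] at h1
  refine ⟨⨆ i, Fr p i T, ?_, ?_, ?_, ?_, ?_⟩
  · exact IsSubcomod.iSup fun i => isSubcomod_Fr p h hc i hT
  · intro h0
    apply hTne
    rw [eq_bot_iff, ← h0]
    refine le_trans ?_ (le_iSup _ 0)
    rw [Fr_zero]
  · intro w hw hw0
    obtain ⟨n, t, ht, rfl⟩ := exists_sum p hw
    refine Finset.sum_eq_zero fun i hi => ?_
    rw [hind n t ht hw0 i (Finset.mem_range.1 hi), map_zero]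
  · intro w hw
    exact F_iSup_mem p hw
  · intro w hw
    obtain ⟨n, t, ht, rfl⟩ := exists_sum p hw
    have h1 : ∀ s : Finset ℕ, r ((∑ i ∈ s, F p i (t i) : P π) : A) = 0 := by
      intro s
      induction s using Finset.induction_on with
      | empty => exact map_zero (r : A →ₐ[k] E)
      | insert i s hi ih =>
        rw [Finset.sum_insert hi, Submodule.coe_add]
        have h2 : r ((F p i (t i) : P π) : A) = 0 := by
          have h3 : r ((F p i (t i) : P π) : A) = r (t i : A) ^ p ^ i := map_pow (r : A →ₐ[k] E) _ _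
          rw [h3, hr _ (ht i).1, zero_pow (pow_ne_zero _ (Fact.out : p.Prime).ne_zero)]
        have h3 : r (((F p i (t i) : P π) : A) + ((∑ i ∈ s, F p i (t i) : P π) : A)) =
          r ((F p i (t i) : P π) : A) + r ((∑ i ∈ s, F p i (t i) : P π) : A) := map_add (r : A →ₐ[k] E) _ _
        rw [h3, h2, ih, add_zero]
    exact h1 _

end K503.Steps
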