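import Groth.Agent.SGA3.K503.Steps

/-!
# Stable spaces of additive functions on an extension (perfect fields), II
-/

set_option autoImplicit false

universe u v

open TensorProduct WithConv HopfRep

namespace K503.Steps

open Groth.Agent.Books.NormalKer Groth.Agent.Books.CoidealFlat Groth.Agent.Books.ComodBasic
open Groth.Agent.Books.ComodHom K503.Frame K503.CrMod K503.CrLin K503.CrPow

variable {k : Type u} [Field k] {A B C E : Type v} [CommRing A] [HopfAlgebra k A]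
  [CommRing B] [HopfAlgebra k B] [CommRing C] [HopfAlgebra k C] [CommRing E] [HopfAlgebra k E]
  {ψ : B →ₐc[k] A} {π : A →ₐc[k] C} [c : Comod k B (P π)]

/-- the projection on a complement -/
theorem exists_proj {X : Submodule k (P π)} (hXc : IsCompl (I0 π) X) :
    ∃ e : P π →ₗ[k] P π, (∀ x ∈ X, e x = x) ∧ ∀ x ∈ I0 π, e x = 0 := by
  refine ⟨X.subtype ∘ₗ Submodule.projectionOnto X (I0 π) hXc.symm, ?_, ?_⟩
  · intro x hx
    exact congrArg Subtype.val (Submodule.projectionOnto_apply_left hXc.symm ⟨x, hx⟩)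
  · intro x hx
    have h1 : x ∈ LinearMap.ker (Submodule.projectionOnto X (I0 π) hXc.symm) := by
      rwa [Submodule.ker_projectionOnto]
    rw [LinearMap.comp_apply, LinearMap.mem_ker.1 h1, map_zero]

variable (p : ℕ) [Fact p.Prime] [CharP k p]

/-- **Step beta.** -/
theorem beta [PerfectField k] (h : Ext ψ π)
    (hc : ∀ a : P π, incl ψ π (Comod.coact (k := k) (A := B) a) = D k A (a : A))
    {X : Submodule k (P π)} (hX : IsSubcomod (k := k) (A := B) X) (hXc : IsCompl (I0 π) X)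
    (θ : P π →ₗ[k] k) (hθ : ∀ a, twist h θ a ∈ X)
    (r : A →ₐc[k] E) (q : B →ₐc[k] E) (hrq : ∀ b, r (ψ b) = q b) (hr : ∀ x ∈ X, r (x : A) = 0)
    (hq : ∀ b : B, (∀ n : ℕ, ∃ d : B, d ^ p ^ n = b) → q b = 0 → b = 0)
    (Y : Submodule k (P π)) (hY : IsSubcomod (k := k) (A := B) Y)
    (hYI : ¬ Y ≤ I0 π) (hYN : Y ≤ Fr p 1 Y ⊔ I0 π) (hYF : ∀ y ∈ Y, F p 1 y ∈ Y) :
    ∃ W : Submodule k (P π), GoodP (B := B) p r W := by
  have hI := isSubcomod_I0 h hc
  obtain ⟨e, heX, heI⟩ := exists_proj hXc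
  obtain ⟨lam, -, -, hl⟩ := exists_coeffMap_eq_pow p h hc 1 θ
  let T := X ⊓ (Y ⊔ I0 π)
  have hT : IsSubcomod (k := k) (A := B) T := IsSubcomod.inf hX (IsSubcomod.sup hY hI)
  -- elements of `T` are `p ^ n`-th powers of elements of `T` modulo `I0`
  have hroot : ∀ (n : ℕ) (t : P π), t ∈ Y ⊔ I0 π → ∃ s ∈ Y, t - F p n s ∈ I0 π := by
    intro n
    induction n with
    | zero =>
      intro t ht
      obtain ⟨y, hy, i, hi, rfl⟩ := Submodule.mem_sup.1 ht
      exact ⟨y, hy, by rwa [F_zero, add_sub_cancel_left]⟩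
    | succ n ih =>
      intro t ht
      obtain ⟨s, hs, hts⟩ := ih t ht
      obtain ⟨f, hf, i, hi, hfi⟩ := Submodule.mem_sup.1 (hYN hs)
      obtain ⟨y, hy, rfl⟩ := (mem_Fr_iff p 1).1 hf
      refine ⟨y, hy, ?_⟩
      have h1 : t - F p (n + 1) y = (t - F p n s) + F p n i := by
        rw [← hfi, map_add, F_F]
        abel
      rw [h1]
      exact add_mem hts (F_mem_I0 p n hi)
  have hcoef : ∀ t ∈ T, ∀ n : ℕ, ∃ d : B, d ^ p ^ n = dl (B := B) lam t := by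
    intro t ht n
    obtain ⟨s, hs, hts⟩ := hroot n t ht.2
    obtain ⟨lam', h1, h2, -⟩ := exists_coeffMap_eq_pow p h hc n (lam ∘ₗ e)
    have h3 : coeffMap B (lam ∘ₗ e) t = coeffMap B lam t := by
      rw [← sub_eq_zero]
      apply (Module.forall_dual_apply_eq_zero_iff k _).1
      intro φ
      rw [map_sub, apply_coeffMap, apply_coeffMap, LinearMap.comp_apply,
        heX _ ((isSubcomod_iff_dact X).1 hX φ t ht.1), sub_self]
    have h4 : coeffMap B (lam ∘ₗ e) (t - F p n s) = 0 := by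
      apply (Module.forall_dual_apply_eq_zero_iff k _).1
      intro φ
      rw [apply_coeffMap, LinearMap.comp_apply, heI _ ((isSubcomod_iff_dact (I0 π)).1 hI φ _ hts), map_zero]
    rw [map_sub, sub_eq_zero, h3, h2] at h4
    obtain ⟨d, hd⟩ := exists_root_k p n (lam t)
    refine ⟨coeffMap B lam' s - algebraMap k B d, ?_⟩
    rw [sub_pow' k, ← h4, ← map_pow, hd, dl_apply]
  have hTF : ∀ t ∈ T, F p 1 t ∈ T := by
    intro t ht
    have h1 := hθ (F p 1 t)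
    have h2 : r ((twist h θ (F p 1 t) : P π) : A) = 0 := hr _ h1
    have h3 : q (dl (B := B) θ (F p 1 t)) = 0 := by
      rw [coe_twist] at h2
      have h4 : r (((F p 1 t : P π) : A) + ψ (dl (B := B) θ (F p 1 t))) =
        r ((F p 1 t : P π) : A) + r (ψ (dl (B := B) θ (F p 1 t))) := map_add (r : A →ₐ[k] E) _ _
      have h5 : r ((F p 1 t : P π) : A) = r (t : A) ^ p ^ 1 := map_pow (r : A →ₐ[k] E) _ _
      rw [h4, h5, hr t ht.1, zero_pow (pow_ne_zero _ (Fact.out : p.Prime).ne_zero), zero_add, hrq] at h2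
      exact h2
    have h4 : dl (B := B) θ (F p 1 t) = 0 := by
      apply hq _ _ h3
      intro n
      obtain ⟨d, hd⟩ := hcoef t ht n
      refine ⟨d ^ p ^ 1, ?_⟩
      rw [← pow_mul, mul_comm, pow_mul, hd, hl]
    have h5 : twist h θ (F p 1 t) = F p 1 t := by
      apply Subtype.ext
      rw [coe_twist, h4]
      have h6 : ψ (0 : B) = 0 := map_zero (ψ : B →ₐ[k] A)
      rw [h6, add_zero]
    rw [h5] at h1
    exact ⟨h1, F_mem_sup p 1 (fun y hy => Submodule.mem_sup_left (hYF y hy)) ht.2⟩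
  exact ⟨T, hT, inf_ne_bot hXc hYI, fun w hw hw0 => eq_zero_of_mem hXc hw.1 hw0, hTF, fun w hw => hr w hw.1⟩

omit c in
theorem isSubcomod_setOf [c : Comod k B (P π)] [PerfectField k] (h : Ext ψ π)
    (hc : ∀ a : P π, incl ψ π (Comod.coact (k := k) (A := B) a) = D k A (a : A)) (n : ℕ)
    (hn : ∀ b : B, IsNilpotent b → b ^ p ^ n = 0) : ∃ Y : Submodule k (P π), IsSubcomod (k := k) (A := B) Y ∧
      ∀ y, y ∈ Y ↔ y ∈ Fr p n (⊤ : Submodule k (P π)) ∧ F p 1 y ∈ I0 π := by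
  let Y : Submodule k (P π) :=
    { carrier := {y | y ∈ Fr p n (⊤ : Submodule k (P π)) ∧ F p 1 y ∈ I0 π}
      add_mem' := by
        rintro a b ⟨ha, ha'⟩ ⟨hb, hb'⟩
        exact ⟨add_mem ha hb, by rw [map_add]; exact add_mem ha' hb'⟩
      zero_mem' := ⟨zero_mem _, by rw [map_zero]; exact zero_mem _⟩
      smul_mem' := by
        rintro c a ⟨ha, ha'⟩
        exact ⟨Submodule.smul_mem _ _ ha, by rw [F_smul]; exact Submodule.smul_mem _ _ ha'⟩ }
  refine ⟨Y, ?_, fun y => Iff.rfl⟩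
  rw [isSubcomod_iff_dact]
  rintro φ y ⟨hy, hy'⟩
  refine ⟨(isSubcomod_iff_dact _).1 (isSubcomod_Fr p h hc n isSubcomod_top) φ y hy, ?_⟩
  obtain ⟨x, -, rfl⟩ := (mem_Fr_iff p n).1 hy
  exact dact_mem p h hc n hn φ x hy'

/-- **Existence of stable spaces over a perfect field.** -/
theorem exists_goodP [PerfectField k] [IsNoetherianRing B] (h : Ext ψ π)
    (hc : ∀ a : P π, incl ψ π (Comod.coact (k := k) (A := B) a) = D k A (a : A))
    (hss : IsSemisimpleComod k B (P π)) (μ : B →ₗ[k] k) (hμ1 : μ 1 = 1)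
    (hμ : ∀ e, μ.rTensor B (Coalgebra.comul (R := k) e) = μ e ⊗ₜ[k] (1 : B))
    (r : A →ₐc[k] E) (q : B →ₐc[k] E) (hrq : ∀ b, r (ψ b) = q b) [IsReduced E]
    (μ' : E →ₗ[k] k) (hμ'1 : μ' 1 = 1)
    (hμ' : ∀ e, μ'.rTensor E (Coalgebra.comul (R := k) e) = μ' e ⊗ₜ[k] (1 : E))
    (hq : ∀ b : B, (∀ n : ℕ, ∃ d : B, d ^ p ^ n = b) → q b = 0 → b = 0)
    (hne : I0 π ≠ ⊤) : ∃ W : Submodule k (P π), GoodP (B := B) p r W := by
  obtain ⟨X, hX, hXc, hrX⟩ := exists_compl h hc hss r q hrq μ' hμ'1 hμ'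
  obtain ⟨θ, hθ, -⟩ := exists_theta h hc μ hμ1 hμ X hX hXc
  obtain ⟨n, hn⟩ := exists_nil_pow B p (Fact.out : p.Prime).one_lt
  set Y := Fr p n (⊤ : Submodule k (P π)) with hYdef
  have hY : IsSubcomod (k := k) (A := B) Y := isSubcomod_Fr p h hc n isSubcomod_top
  have hYF : ∀ y ∈ Y, F p 1 y ∈ Y := by
    intro y hy
    obtain ⟨x, -, rfl⟩ := (mem_Fr_iff p n).1 hy
    rw [F_F, add_comm, ← F_F]
    exact F_mem_Fr p n trivial
  by_cases h0 : Y ≤ I0 π
  · -- all high powers vanish on the kernel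
    have hex : ∃ j, Fr p j (⊤ : Submodule k (P π)) ≤ I0 π := ⟨n, h0⟩
    classical
    have hj := Nat.find_spec hex
    have hj0 : Nat.find hex ≠ 0 := by
      intro h1
      rw [h1, Fr_zero] at hj
      exact hne (top_le_iff.1 hj)
    obtain ⟨j, hj'⟩ := Nat.exists_eq_succ_of_ne_zero hj0
    refine alpha p h hc hX hXc θ hθ r (Fr p j ⊤) (isSubcomod_Fr p h hc j isSubcomod_top)
      (Nat.find_min hex (by omega)) ?_
    intro y hy
    obtain ⟨x, -, rfl⟩ := (mem_Fr_iff p j).1 hy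
    rw [F_F]
    apply hj
    rw [hj', Nat.succ_eq_add_one, add_comm j 1]
    exact F_mem_Fr p _ trivial
  by_cases h1 : ∃ y ∈ Y, F p 1 y ∈ I0 π ∧ y ∉ I0 π
  · obtain ⟨Z, hZ, hZm⟩ := isSubcomod_setOf p h hc n hn
    obtain ⟨y, hy, hy1, hy2⟩ := h1
    refine alpha p h hc hX hXc θ hθ r Z hZ (fun hle => hy2 (hle ((hZm y).2 ⟨hy, hy1⟩))) ?_
    intro z hz
    exact ((hZm z).1 hz).2
  have hinj : ∀ y ∈ Y, F p 1 y ∈ I0 π → y ∈ I0 π := by
    intro y hy hy1
    by_contra hy2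
    exact h1 ⟨y, hy, hy1, hy2⟩
  by_cases h2 : Y ≤ Fr p 1 Y ⊔ I0 π
  · exact beta p h hc hX hXc θ hθ r q hrq hrX hq Y hY h0 h2 hYF
  · exact gamma p h hc hss hX hXc r hrX Y hY hYF h2 hinj

end K503.Steps
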